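import Cfsg.Agent.Lib.Fusion.SpFour.OddA.Square
import Mathlib.LinearAlgebra.Basis.VectorSpace
import Mathlib.Algebra.Module.ZMod
import Mathlib.RingTheory.IntegralDomain

/-!
The centraliser of the involution preserves the third axis, so `T` is normal.
-/

set_option autoImplicit false
set_option linter.style.haveILetI false
set_option linter.unusedSectionVars false

namespace CfsgLib.Fusion.SpFour.OddA

open Cfsg

variable {K : Type*} [Field K]

theorem exists_retraction_aux (p : ℕ) [Fact p.Prime] {M : Type*} [AddCommGroup M]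
    [Module (ZMod p) M] (W : AddSubgroup M) :
    ∃ r : M →+ M, (∀ v, r v ∈ W) ∧ ∀ v ∈ W, r v = v := by
  let P : Submodule (ZMod p) M := AddSubgroup.toZModSubmodule p W
  obtain ⟨f, hf⟩ := P.subtype.exists_leftInverse_of_injective P.ker_subtype
  refine ⟨(P.subtype.comp f).toAddMonoidHom, fun v => (f v).2, fun v hv => ?_⟩
  exact congrArg Subtype.val (LinearMap.congr_fun hf (⟨v, hv⟩ : P))

/-- A retraction onto a subgroup. -/
theorem exists_retraction (p : ℕ) [Fact p.Prime] [CharP K p] (W : AddSubgroup (K × K × K)) :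
    ∃ r : (K × K × K) →+ (K × K × K), (∀ v, r v ∈ W) ∧ ∀ v ∈ W, r v = v := by
  have h0 : ∀ x : K × K × K, p • x = 0 := fun x => by
    refine Prod.ext ?_ (Prod.ext ?_ ?_) <;> simp [nsmul_eq_mul]
  letI : Module (ZMod p) (K × K × K) := AddCommGroup.zmodModule h0
  exact exists_retraction_aux p W

namespace Setup

variable {p : ℕ} [Fact p.Prime] [CharP K p] {G : Subgroup (MulAut (V3 K))} {S : Setup p G}

local notation "A[" t "]" => app ((S.el t : G) : MulAut (V3 K))
local notation "g[" g "]" => app ((g : G) : MulAut (V3 K))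
local notation "N" => Subgroup.normalizer ((S.T : Subgroup G) : Set G)
local notation "E" => (((0 : K), (0 : K), S.e) : K × K × K)

/-- The centraliser of the involution preserves the axis. -/
theorem Invol.pres [Finite K] (hneg : NegProp K p) (htor : HasTorus G)
    (hnn : ¬ (S.T : Subgroup G).Normal) (hq : p < Nat.card K) (I : S.Invol) {x₀ : G}
    (hx₀ : x₀ * I.τ = I.τ * x₀) : Pres (x₀ : MulAut (V3 K)) := by
  classical
  letI := Fintype.ofFinite K
  -- the centraliser
  set X : Subgroup G := Subgroup.centralizer {I.τ} with hX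
  have hmem : ∀ x : G, x ∈ X ↔ x * I.τ = I.τ * x := fun x =>
    Subgroup.mem_centralizer_singleton_iff
  letI := Fintype.ofFinite X
  have hXp : ¬ p ∣ Nat.card X := by
    intro hd
    obtain ⟨⟨x, hxX⟩, hx⟩ := exists_prime_orderOf_dvd_card' p hd
    rw [Subgroup.orderOf_mk] at hx
    have := I.pElement_eq_one hneg ((hmem x).1 hxX) 1 (by rw [pow_one, ← hx, pow_orderOf_eq_one])
    rw [this, orderOf_one] at hx
    exact (Fact.out : p.Prime).ne_one hx.symm
  -- representatives
  choose r hr hrc using I.exists_anti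
  have hr0 : ∀ w, w ≠ 0 → r w ≠ 0 := fun w hw h => hw (by rw [← hrc w, h]; rfl)
  have hf : ∀ w, ∃ u, w ≠ 0 → I.Sq (r w) u := fun w => by
    by_cases hw : w = 0
    · exact ⟨0, fun h => absurd hw h⟩
    · obtain ⟨u, hu⟩ := I.exists_sq (hr w) (hr0 w hw)
      exact ⟨u, fun _ => hu⟩
  choose f hf using hf
  let q : (K × K × K) →+ (K × K × K) ⧸ AddSubgroup.zmultiples E :=
    QuotientAddGroup.mk' (AddSubgroup.zmultiples E)
  have hqE : ∀ i : ℤ, q (i • E) = 0 := fun i =>
    (QuotientAddGroup.eq_zero_iff _).2 (AddSubgroup.zsmul_mem _ (AddSubgroup.mem_zmultiples _) i)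
  have hqg : ∀ (g : G) a b, q a = q b → q (g[g] a) = q (g[g] b) := by
    intro g a b h
    obtain ⟨i, hi⟩ := AddSubgroup.mem_zmultiples_iff.1
      ((QuotientAddGroup.eq_iff_sub_mem).1 h)
    refine (QuotientAddGroup.eq_iff_sub_mem).2 (AddSubgroup.mem_zmultiples_iff.2 ⟨i, ?_⟩)
    rw [← map_sub, ← hi, map_zsmul, S.fix]
  have hsq : ∀ rr u, g[I.τ] rr = -rr → rr ≠ 0 → I.Sq rr u → q u = q (f rr.2.1) := by
    intro rr u h1 h2 h3
    have hw := I.anti_ne h1 h2
    rw [← I.anti_unique (hr rr.2.1) h1 (hrc _)] at h3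
    obtain ⟨i, hi⟩ := I.sq_unique hneg htor hnn (hr _) (hr0 _ hw) h3 (hf _ hw)
    rw [← sub_eq_zero, ← map_sub, hi, hqE]
  -- the action on the representatives
  have hperm : ∀ (x : G), x ∈ X → ∀ w, w ≠ 0 → (g[x] (r w)).2.1 ≠ 0 ∧
      g[x] (r w) = r (g[x] (r w)).2.1 ∧ q (g[x] (f w)) = q (f (g[x] (r w)).2.1) := by
    intro x hx w hw
    have h1 := I.anti_map ((hmem x).1 hx) (hr w)
    have h2 : g[x] (r w) ≠ 0 := fun h =>
      hr0 w hw (app_injective (x : MulAut (V3 K)) (h.trans (map_zero _).symm))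
    exact ⟨I.anti_ne h1 h2, (I.anti_unique (hr _) h1 (hrc _)).symm,
      hsq _ _ h1 h2 (I.sq_map ((hmem x).1 hx) (hf w hw))⟩
  set Φ := ∑ w ∈ Finset.univ.erase (0 : K), f w with hΦ
  have hΦfix : ∀ x ∈ X, q (g[x] Φ) = q Φ := by
    intro x hx
    rw [hΦ, map_sum, map_sum, map_sum]
    refine Finset.sum_bij (fun w _ => (g[x] (r w)).2.1) ?_ ?_ ?_ ?_
    · intro w hw
      exact Finset.mem_erase.2 ⟨(hperm x hx w (Finset.ne_of_mem_erase hw)).1, Finset.mem_univ _⟩
    · intro a ha b hb h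
      have e := (hperm x hx a (Finset.ne_of_mem_erase ha)).2.1
      rw [h, ← (hperm x hx b (Finset.ne_of_mem_erase hb)).2.1] at e
      rw [← hrc a, app_injective _ e, hrc b]
    · intro w hw
      obtain ⟨h1, h2, -⟩ := hperm x⁻¹ (inv_mem hx) w (Finset.ne_of_mem_erase hw)
      refine ⟨_, Finset.mem_erase.2 ⟨h1, Finset.mem_univ _⟩, ?_⟩
      rw [← h2, Subgroup.coe_inv, app_self_inv, hrc]
    · intro w hw
      exact (hperm x hx w (Finset.ne_of_mem_erase hw)).2.2
  -- the torus
  obtain ⟨l, hl⟩ := IsCyclic.exists_ofOrder_eq_natCard (α := Kˣ)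
  obtain ⟨n, hn⟩ : ∃ n, Nat.card K = n + 1 :=
    ⟨Nat.card K - 1, by have := (Nat.card_pos (α := K)); omega⟩
  have hln : orderOf (l : K) = n := by
    rw [orderOf_units, hl, Nat.card_units, hn, Nat.add_sub_cancel]
  obtain ⟨η, hη, hηd, hη1, hη2⟩ := I.exists_torus hneg htor (l := (l : K)) l.ne_zero
  have hηX : η ∈ X := (hmem η).2 hη
  have hηk : ∀ (k : ℕ) w, w ≠ 0 → (g[η ^ k] (r w)).2.1 = ((l : K)⁻¹) ^ k * w := by
    intro k
    induction k with
    | zero => intro w _; rw [pow_zero, Subgroup.coe_one, app_one, pow_zero, one_mul, hrc]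
    | succ k ih =>
      intro w hw
      obtain ⟨-, h2, -⟩ := hperm (η ^ k) (pow_mem hηX k) w hw
      rw [pow_succ', Subgroup.coe_mul, app_mul, h2, ih w hw]
      have h1 := I.anti_plane (hr (((l : K)⁻¹) ^ k * w))
      rw [show r (((l : K)⁻¹) ^ k * w) = (0, (r (((l : K)⁻¹) ^ k * w)).2.1,
        (r (((l : K)⁻¹) ^ k * w)).2.2) from Prod.ext h1 rfl, hη2, hrc, pow_succ']
      ring
  have hinj : Set.InjOn (fun k => ((l : K)⁻¹) ^ k) (Finset.range n : Set ℕ) := by
    intro a ha b hb h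
    simp only [inv_pow] at h
    refine pow_injOn_Iio_orderOf (x := (l : K)) ?_ ?_ (inv_injective h)
    · simpa [hln] using ha
    · simpa [hln] using hb
  let Ψ : (K × K × K) →+ (K × K × K) ⧸ AddSubgroup.zmultiples E :=
    ∑ k ∈ Finset.range n, q.comp g[η ^ k]
  have hΨ : ∀ v, Ψ v = ∑ k ∈ Finset.range n, q (g[η ^ k] v) := fun v => by
    simp [Ψ]
  have hΨf : ∀ w, w ≠ 0 → Ψ (f w) = q Φ := by
    intro w hw
    rw [hΨ, Finset.sum_congr rfl (fun k _ => by
      rw [(hperm (η ^ k) (pow_mem hηX k) w hw).2.2, hηk k w hw]), hΦ, map_sum]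
    have himg : (Finset.range n).image (fun k => ((l : K)⁻¹) ^ k * w) =
        Finset.univ.erase (0 : K) := by
      refine Finset.eq_of_subset_of_card_le (fun y hy => ?_) ?_
      · obtain ⟨k, -, rfl⟩ := Finset.mem_image.1 hy
        exact Finset.mem_erase.2
          ⟨mul_ne_zero (pow_ne_zero _ (inv_ne_zero l.ne_zero)) hw, Finset.mem_univ _⟩
      · rw [Finset.card_image_of_injOn (fun a ha b hb h => hinj ha hb (mul_right_cancel₀ hw h)),
          Finset.card_range, Finset.card_erase_of_mem (Finset.mem_univ _), Finset.card_univ,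
          ← Nat.card_eq_fintype_card, hn, Nat.add_sub_cancel]
    rw [← himg, Finset.sum_image (fun a ha b hb h => hinj ha hb (mul_right_cancel₀ hw h))]
  -- the image
  let W : AddSubgroup (K × K × K) := AddSubgroup.closure
    ({u | ∃ rr, g[I.τ] rr = -rr ∧ rr ≠ 0 ∧ I.Sq rr u} ∪ {E})
  have hWτ : ∀ v ∈ W, g[I.τ] v = v := by
    intro v hv
    induction hv using AddSubgroup.closure_induction with
    | mem v hv =>
      rcases hv with ⟨rr, -, -, h⟩ | h
      · exact h.1
      · rw [Set.mem_singleton_iff.1 h]; exact S.fix _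
    | zero => exact map_zero _
    | add a b _ _ ha hb => rw [map_add, ha, hb]
    | neg a _ ha => rw [map_neg, ha]
  have hWX : ∀ x ∈ X, ∀ v ∈ W, g[x] v ∈ W := by
    intro x hx v hv
    induction hv using AddSubgroup.closure_induction with
    | mem v hv =>
      rcases hv with ⟨rr, h1, h2, h⟩ | h
      · exact AddSubgroup.subset_closure (Or.inl ⟨g[x] rr, I.anti_map ((hmem x).1 hx) h1,
          fun h0 => h2 (app_injective (x : MulAut (V3 K)) (h0.trans (map_zero _).symm)),
          I.sq_map ((hmem x).1 hx) h⟩)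
      · rw [Set.mem_singleton_iff.1 h, S.fix]
        exact AddSubgroup.subset_closure (Or.inr rfl)
    | zero => rw [map_zero]; exact W.zero_mem
    | add a b _ _ ha hb => rw [map_add]; exact W.add_mem ha hb
    | neg a _ ha => rw [map_neg]; exact W.neg_mem ha
  have hWb : ∀ b : K, ∃ v ∈ W, v.1 = b := by
    have hsqw : ∀ w : K, ∃ v ∈ W, v.1 = 2 * w ^ 2 / S.e := by
      intro w
      by_cases hw : w = 0
      · exact ⟨0, W.zero_mem, by simp [hw]⟩
      · exact ⟨f w, AddSubgroup.subset_closure (Or.inl ⟨r w, hr w, hr0 w hw, hf w hw⟩),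
          by rw [I.sq_fst (hr w) (hr0 w hw) (hf w hw), hrc]⟩
    intro b
    obtain ⟨v, hv, hv'⟩ := hsqw ((b * S.e / 2 + 1) / 2)
    obtain ⟨u, hu, hu'⟩ := hsqw ((b * S.e / 2 - 1) / 2)
    refine ⟨v - u, W.sub_mem hv hu, ?_⟩
    have := S.two_ne
    have := S.e_ne
    rw [Prod.fst_sub, hv', hu']
    field_simp
    ring
  have hWax : ∀ v ∈ W, Ψ v ∈ AddSubgroup.zmultiples (q Φ) := by
    intro v hv
    induction hv using AddSubgroup.closure_induction with
    | mem v hv =>
      rcases hv with ⟨rr, h1, h2, h⟩ | h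
      · have : Ψ v = Ψ (f rr.2.1) := by
          rw [hΨ, hΨ]
          exact Finset.sum_congr rfl fun k _ => hqg _ _ _ (hsq rr v h1 h2 h)
        rw [this, hΨf _ (I.anti_ne h1 h2)]
        exact AddSubgroup.mem_zmultiples _
      · rw [Set.mem_singleton_iff.1 h, hΨ, Finset.sum_eq_zero fun k _ => by
          rw [S.fix]; simpa using hqE 1]
        exact AddSubgroup.zero_mem _
    | zero => rw [map_zero]; exact AddSubgroup.zero_mem _
    | add a b _ _ ha hb => rw [map_add]; exact AddSubgroup.add_mem _ ha hb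
    | neg a _ ha => rw [map_neg]; exact AddSubgroup.neg_mem _ ha
  -- the equivariant retraction
  obtain ⟨p₀, hp₀, hp₀'⟩ := exists_retraction p W
  obtain ⟨m, hm⟩ := exists_nsmul_inv (K := K) hXp
  let π : (K × K × K) →+ (K × K × K) :=
    AddMonoidHom.mk' (fun v => m • ∑ x : X, g[(x : G)] (p₀ (g[(x : G)⁻¹] v))) fun a b => by
      simp only [map_add, Finset.sum_add_distrib, smul_add]
  have hπ : ∀ v, π v = m • ∑ x : X, g[(x : G)] (p₀ (g[(x : G)⁻¹] v)) := fun _ => rfl
  have hπW : ∀ v, π v ∈ W := fun v =>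
    W.nsmul_mem (W.sum_mem fun x _ => hWX _ x.2 _ (hp₀ _)) m
  have hπid : ∀ v ∈ W, π v = v := by
    intro v hv
    rw [hπ, Finset.sum_congr rfl (fun (x : X) _ => by
      rw [hp₀' _ (hWX _ (inv_mem x.2) _ hv), Subgroup.coe_inv, app_self_inv]), Finset.sum_const,
      Finset.card_univ, ← Nat.card_eq_fintype_card, hm]
  have hπX : ∀ y ∈ X, ∀ v, π (g[y] v) = g[y] (π v) := by
    intro y hy v
    rw [hπ, hπ, map_nsmul, map_sum]
    congr 1
    refine (Fintype.sum_equiv (Equiv.mulLeft (⟨y, hy⟩ : X)) _ _ fun x => ?_).symm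
    show g[y] (g[(x : G)] (p₀ (g[(x : G)⁻¹] v))) =
      g[y * (x : G)] (p₀ (g[(y * (x : G))⁻¹] (g[y] v)))
    simp only [Subgroup.coe_mul, Subgroup.coe_inv, mul_inv_rev, app_mul, app_inv_self]
  -- fixed points of the torus
  have hl2 : (l : K)⁻¹ * (l : K)⁻¹ ≠ 1 := fun h => by
    have h2 : 2 < n := by
      have h3 := (Fact.out : p.Prime).two_le
      have h4 := S.hp
      omega
    have h1 : (l : K) ^ 2 = 1 := by
      rw [← mul_inv, inv_eq_one] at h
      rw [pow_two, h]
    have := Nat.le_of_dvd two_pos (hln ▸ orderOf_dvd_of_pow_eq_one h1)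
    omega
  have hπax : ∀ x : K, (π (0, 0, x)).1 = 0 ∧ (π (0, 0, x)).2.1 = 0 := by
    intro x
    set z := π (0, 0, x) with hz
    have hzτ : g[I.τ] z = z := hWτ _ (hπW _)
    have hzη : g[η] z = z := by rw [hz, ← hπX η hηX, hηd]
    have hb : z.1 = 0 := by
      have h1 := congrArg Prod.fst hzη
      rw [show z = (z.1, z.2.1, z.2.2) from rfl, hη1] at h1
      by_contra hb
      exact hl2 (mul_right_cancel₀ hb (h1.trans (one_mul _).symm))
    exact ⟨hb, I.fix_plane hzτ hb⟩
  have hn1 : (n : K) = -1 := by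
    have h : ((Nat.card K : ℕ) : K) = 0 := by
      rw [Nat.card_eq_fintype_card, Nat.cast_card_eq_zero]
    rw [hn, Nat.cast_succ] at h
    linear_combination h
  intro y
  set v : K × K × K := (0, 0, y) with hv
  have hx : x₀ ∈ X := (hmem x₀).2 hx₀
  -- the part in the image
  have h1 : (g[x₀] (π v)).1 = 0 ∧ (g[x₀] (π v)).2.1 = 0 := by
    set z := π v with hz
    obtain ⟨hz1, hz2⟩ := hπax y
    rw [← hv, ← hz] at hz1 hz2
    have hze : z = (0, 0, z.2.2) := Prod.ext hz1 (Prod.ext hz2 rfl)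
    have hΨz : Ψ z = -q z := by
      rw [hΨ, Finset.sum_congr rfl (fun k _ => by
        rw [show g[η ^ k] z = z by
          rw [hze]
          clear * - hηd
          induction k with
          | zero => rw [pow_zero, Subgroup.coe_one, app_one]
          | succ k ih => rw [pow_succ', Subgroup.coe_mul, app_mul, ih, hηd]]),
        Finset.sum_const, Finset.card_range, ← map_nsmul, ← Nat.cast_smul_eq_nsmul K, hn1,
        neg_one_smul, map_neg]
    obtain ⟨i, hi⟩ := AddSubgroup.mem_zmultiples_iff.1 (hWax z (hπW _))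
    have hqz : q z = q ((-i) • Φ) := by
      rw [map_zsmul, neg_smul, hi, hΨz, neg_neg]
    have h2 : q (g[x₀] z) = q z := by
      rw [hqg x₀ _ _ hqz, map_zsmul, map_zsmul, hΦfix x₀ hx, ← map_zsmul, hqz]
    obtain ⟨j, hj⟩ := AddSubgroup.mem_zmultiples_iff.1
      ((QuotientAddGroup.eq_iff_sub_mem).1 h2)
    have h3 : g[x₀] z = j • E + z := by rw [hj, sub_add_cancel]
    simp [h3, hz1, hz2]
  -- the part in the kernel
  set j := g[x₀] (v - π v) with hj
  have hjπ : π j = 0 := by rw [hj, hπX _ hx, map_sub, hπid _ (hπW v), sub_self, map_zero]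
  have hjτ : g[I.τ] j = j := by
    rw [hj, ← app_mul, ← Subgroup.coe_mul, ← hx₀, Subgroup.coe_mul, app_mul, map_sub g[I.τ],
      hWτ _ (hπW v), hv, I.fixD]
  obtain ⟨i, hiW, hi⟩ := hWb j.1
  have hb : (j - i).1 = 0 := by simp [hi]
  have hc := I.fix_plane (by rw [map_sub, hjτ, hWτ i hiW]) hb
  set a := (j - i).2.2 with ha
  have hja : j = i + (0, 0, a) := by
    rw [← show j - i = (0, 0, a) from Prod.ext hb (Prod.ext hc rfl), add_sub_cancel]
  have hi' : i = -π (0, 0, a) := by
    rw [hja, map_add, hπid i hiW] at hjπ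
    exact eq_neg_of_add_eq_zero_left hjπ
  have hjax : j.1 = 0 ∧ j.2.1 = 0 := by
    rw [hja, hi']
    simp [hπax a]
  have e : g[x₀] v = g[x₀] (π v) + j := by rw [hj, ← map_add, add_sub_cancel]
  simp [e, h1, hjax]

/-- The theorem for a group fixing a point of the axis. -/
theorem normal [Finite K] (hneg : NegProp K p) (S : Setup p G) (htor : HasTorus G)
    (hq : p < Nat.card K) : (S.T : Subgroup G).Normal := by
  by_contra hnn
  obtain ⟨g, hgf, hg1, hg2⟩ := htor (-1) (neg_ne_zero.2 one_ne_zero)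
  obtain ⟨I⟩ := S.exists_invol hneg hgf (fun b c d => by rw [hg1]; norm_num)
    fun c d => by rw [hg2]; norm_num
  obtain ⟨x, hx, hxN⟩ := I.exists_not_mem hneg hq hnn
  exact hxN (S.mem_normalizer_of_pres hneg (I.pres hneg htor hnn hq hx))

end Setup

end CfsgLib.Fusion.SpFour.OddA
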