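import Cfsg.Agent.Lib.Fusion.SpFour.OddA.Involution

/-!
The stabiliser of a point of `cd` off the axis is not contained in `N(T)`, so the points it fixes
on the axis form a group of order `p`.
-/

set_option autoImplicit false
set_option linter.style.haveILetI false
set_option linter.unusedSectionVars false

namespace CfsgLib.Fusion.SpFour.OddA

open Cfsg

variable {K : Type*} [Field K]

/-- The group contains the torus. -/
def HasTorus (G : Subgroup (MulAut (V3 K))) : Prop :=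
  ∀ l : K, l ≠ 0 → ∃ g : G, FixD (g : MulAut (V3 K)) ∧
    (∀ b c d, (app (g : MulAut (V3 K)) (b, c, d)).1 = l⁻¹ * l⁻¹ * b) ∧
    ∀ c d, (app (g : MulAut (V3 K)) (0, c, d)).2.1 = l⁻¹ * c

namespace Setup

variable {p : ℕ} [Fact p.Prime] [CharP K p] {G : Subgroup (MulAut (V3 K))} (S : Setup p G)

local notation "A[" t "]" => app ((S.el t : G) : MulAut (V3 K))
local notation "g[" g "]" => app ((g : G) : MulAut (V3 K))
local notation "N" => Subgroup.normalizer ((S.T : Subgroup G) : Set G)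
local notation "E" => (((0 : K), (0 : K), S.e) : K × K × K)

theorem el_app_plane (t : K) {v : K × K × K} (h1 : v.1 = 0) :
    A[t] v = v + (0, 0, 2 * t * v.2.1) := by
  rw [S.el_app', h1]
  refine Prod.ext ?_ (Prod.ext ?_ ?_) <;> simp [h1]

theorem el_shift {v : K × K × K} (h1 : v.1 = 0) (h2 : v.2.1 ≠ 0) :
    A[S.e / (2 * v.2.1)] v = v + E := by
  rw [S.el_app_plane _ h1]
  congr 3
  have := S.two_ne
  field_simp

include S in
/-- Some coset of `⟨e⟩` in `cd` off the axis has its stabiliser outside `N(T)`. -/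
theorem exists_stab_mod [Finite K] (hneg : NegProp K p) (hnn : ¬ (S.T : Subgroup G).Normal) :
    ∃ w δ : K, w ≠ 0 ∧ ∃ h : G, h ∉ N ∧ ∃ i : ℤ, g[h] (0, w, δ) = (0, w, δ) + i • E := by
  classical
  by_contra hall
  push Not at hall
  obtain ⟨g₀, hg₀⟩ : ∃ g : G, g ∉ N := by
    by_contra h
    push Not at h
    exact hnn (Subgroup.normalizer_eq_top_iff.1 (eq_top_iff.2 fun g _ => h g))
  letI := Fintype.ofFinite K
  let A : Finset (K × K × K) := {0} ×ˢ ((Finset.univ.erase 0) ×ˢ Finset.univ)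
  have hA : ∀ v : K × K × K, v ∈ A ↔ v.1 = 0 ∧ v.2.1 ≠ 0 := fun v => by
    obtain ⟨a, b, c⟩ := v
    simp [A, Prod.ext_iff]
    tauto
  let k : Option K → G := fun o => o.elim 1 fun t => S.el t * g₀
  have key : ∀ m : G, ∀ v ∈ A, g[m] v ∈ A → m ∈ N := by
    intro m v hv hv'
    rw [hA] at hv hv'
    have ht : S.e / (2 * (g[m] v).2.1) ≠ 0 :=
      div_ne_zero S.e_ne (mul_ne_zero S.two_ne hv'.2)
    set t := S.e / (2 * (g[m] v).2.1)
    have hh : g[m⁻¹ * S.el t * m] v = v + (1 : ℤ) • E := by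
      rw [Subgroup.coe_mul, Subgroup.coe_mul, app_mul, app_mul, S.el_shift hv'.1 hv'.2, map_add,
        S.fix, Subgroup.coe_inv, app_inv_self, one_smul]
    have hN : m⁻¹ * S.el t * m ∈ N := by
      by_contra hN
      refine hall v.2.1 v.2.2 hv.2 _ hN 1 ?_
      rwa [show ((0 : K), v.2.1, v.2.2) = v from Prod.ext hv.1.symm rfl]
    obtain ⟨t', ht'⟩ := S.eq_el_of_pElement hN 1 (by
      rw [pow_one, show m⁻¹ * S.el t * m = m⁻¹ * S.el t * m⁻¹⁻¹ by rw [inv_inv], conj_pow,
        S.el_pow_p, mul_one, mul_inv_cancel])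
    have := inv_mem (S.mem_of_conj_el hneg ht (g := m⁻¹) (by rw [inv_inv]; exact ht'))
    rwa [inv_inv] at this
  have hdisj : ∀ o o' : Option K, ∀ v ∈ A, ∀ v' ∈ A, g[k o] v = g[k o'] v' → o = o' := by
    intro o o' v hv v' hv' h
    have hm : (k o')⁻¹ * k o ∈ N := key _ v hv (by
      rw [Subgroup.coe_mul, app_mul, h, Subgroup.coe_inv, app_inv_self]; exact hv')
    rcases o with _ | t <;> rcases o' with _ | s
    · rfl
    · refine absurd ?_ hg₀
      have := mul_mem (inv_mem (S.el_mem_normalizer s)) (inv_mem hm)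
      simpa [k] using this
    · refine absurd ?_ hg₀
      have := mul_mem (inv_mem (S.el_mem_normalizer t)) hm
      simpa [k] using this
    · by_contra hts
      have e : (k (some s))⁻¹ * k (some t) = g₀⁻¹ * S.el (-s + t) * g₀⁻¹⁻¹ := by
        rw [S.el_add, S.el_neg]
        simp only [k, Option.elim]
        group
      rw [e] at hm
      obtain ⟨t', ht'⟩ := S.eq_el_of_pElement hm 1 (by
        rw [pow_one, conj_pow, S.el_pow_p, mul_one, mul_inv_cancel])
      have := inv_mem (S.mem_of_conj_el hneg (fun h0 => hts (by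
        rw [show t = s by linear_combination h0])) ht')
      exact hg₀ (by rwa [inv_inv] at this)
  let B : Finset (K × K × K) := Finset.univ.biUnion fun o => A.image g[k o]
  let ax : Finset (K × K × K) := Finset.univ.image fun x : K => ((0 : K), (0 : K), x)
  have hax : ∀ (g : G) (x : K), g[g] (0, 0, x) ∉ B := by
    intro g x hB
    simp only [B, Finset.mem_biUnion, Finset.mem_image] at hB
    obtain ⟨o, -, v, hv, h⟩ := hB
    rw [hA] at hv
    have h1 : g[(k o)⁻¹ * g] (0, 0, x) = v := by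
      rw [Subgroup.coe_mul, app_mul, ← h, Subgroup.coe_inv, app_inv_self]
    have := S.plane_axis _ (w := x) (h1 ▸ hv.1)
    rw [h1] at this
    exact hv.2 this
  have hcard : (B ∪ ax).card = (Finset.univ : Finset (K × K × K)).card := by
    rw [Finset.card_union_of_disjoint (Finset.disjoint_right.2 fun z hz => by
      obtain ⟨x, -, rfl⟩ := Finset.mem_image.1 hz
      have := hax 1 x
      rwa [Subgroup.coe_one, app_one] at this)]
    rw [Finset.card_biUnion (fun o _ o' _ hoo => Finset.disjoint_left.2 fun z hz hz' => by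
      obtain ⟨v, hv, rfl⟩ := Finset.mem_image.1 hz
      obtain ⟨v', hv', h⟩ := Finset.mem_image.1 hz'
      exact hoo (hdisj o o' v hv v' hv' h.symm))]
    simp only [Finset.card_image_of_injective _ (app_injective _), Finset.sum_const,
      Finset.card_univ, Fintype.card_option, smul_eq_mul, A, Finset.card_product,
      Finset.card_singleton, one_mul, Finset.card_erase_of_mem (Finset.mem_univ (0 : K)),
      Fintype.card_prod, ax]
    rw [Finset.card_image_of_injective _ (fun a b h => by simpa using h), Finset.card_univ]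
    obtain ⟨n, hn⟩ := Nat.exists_eq_succ_of_ne_zero (Fintype.card_ne_zero (α := K))
    simp only [hn, Nat.succ_sub_one, Nat.succ_eq_add_one]
    ring
  have huniv := Finset.eq_univ_of_card _ (hcard.trans Finset.card_univ)
  refine hg₀ (S.mem_normalizer_of_pres hneg fun x => ?_)
  have h := huniv ▸ Finset.mem_univ (g[g₀] (0, 0, x))
  rcases Finset.mem_union.1 h with h | h
  · exact absurd h (hax g₀ x)
  · obtain ⟨y, -, hy⟩ := Finset.mem_image.1 h
    simp [← hy]

include S in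
/-- The stabiliser of a point of `cd` off the axis is not contained in `N(T)`. -/
theorem exists_stab [Finite K] (hneg : NegProp K p) (htor : HasTorus G)
    (hnn : ¬ (S.T : Subgroup G).Normal) {v : K × K × K} (h1 : v.1 = 0) (h2 : v.2.1 ≠ 0) :
    ∃ h : G, h ∉ N ∧ g[h] v = v := by
  obtain ⟨w₀, δ₀, hw₀, h₀, hh₀, i, hi⟩ := S.exists_stab_mod hneg hnn
  obtain ⟨g, hgf, -, hg2⟩ := htor (w₀ / v.2.1) (div_ne_zero hw₀ h2)
  have hgN := S.mem_normalizer_of_pres hneg hgf.pres
  set u := g[g] (0, w₀, δ₀) with hu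
  have hu1 : u.1 = 0 := S.plane_of_mem_normalizer hgN rfl
  have hu2 : u.2.1 = v.2.1 := by rw [hu, hg2]; field_simp
  obtain ⟨s, hs⟩ : ∃ s, A[s] u = v := by
    refine ⟨(v.2.2 - u.2.2) / (2 * v.2.1), ?_⟩
    have := S.two_ne
    rw [S.el_app_plane _ hu1, hu2]
    refine Prod.ext ?_ (Prod.ext ?_ ?_)
    · simp [hu1, h1]
    · simp [hu2]
    · simp only [Prod.snd_add]
      field_simp
      ring
  obtain ⟨r, hr⟩ : ∃ r, A[r] ((0, w₀, δ₀) + i • E) = (0, w₀, δ₀) := by
    refine ⟨-((i : K) * S.e / (2 * w₀)), ?_⟩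
    have := S.two_ne
    rw [map_add, map_zsmul, S.fix, S.el_app_plane _ rfl]
    refine Prod.ext ?_ (Prod.ext ?_ ?_) <;> simp [zsmul_eq_mul]
    field_simp
    ring
  set m := S.el s * g
  have hmN : m ∈ N := mul_mem (S.el_mem_normalizer s) hgN
  have hmv : g[m] (0, w₀, δ₀) = v := by rw [Subgroup.coe_mul, app_mul, ← hu, hs]
  refine ⟨m * (S.el r * h₀) * m⁻¹, fun h => hh₀ ?_, ?_⟩
  · have := mul_mem (inv_mem (S.el_mem_normalizer r)) (mul_mem (mul_mem (inv_mem hmN) h) hmN)
    rwa [show (S.el r)⁻¹ * (m⁻¹ * (m * (S.el r * h₀) * m⁻¹) * m) = h₀ by group] at this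
  · have hinv : g[m⁻¹] v = (0, w₀, δ₀) := by rw [← hmv, Subgroup.coe_inv, app_inv_self]
    have h3 : g[S.el r * h₀] (0, w₀, δ₀) = (0, w₀, δ₀) := by
      rw [Subgroup.coe_mul, app_mul, hi, hr]
    rw [Subgroup.coe_mul, app_mul, hinv, Subgroup.coe_mul, app_mul, h3, hmv]

include S in
/-- A group fixing a point of `cd` off the axis is a `p'`-group. -/
theorem not_dvd_stab [Finite K] (H : Subgroup G) {v : K × K × K} (h1 : v.1 = 0) (h2 : v.2.1 ≠ 0)
    (hv : ∀ x ∈ H, g[x] v = v) : ¬ p ∣ Nat.card H := by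
  intro hd
  obtain ⟨⟨x, hxH⟩, hx⟩ := exists_prime_orderOf_dvd_card' p hd
  rw [Subgroup.orderOf_mk] at hx
  have hP : IsPGroup p (Subgroup.zpowers x) :=
    IsPGroup.of_card (n := 1) (by rw [Nat.card_zpowers, hx, pow_one])
  obtain ⟨Q, hQ⟩ := hP.exists_le_sylow
  obtain ⟨g, hg⟩ := MulAction.exists_smul_eq G S.T Q
  have hxQ : x ∈ ((g • S.T : Sylow p G) : Subgroup G) := by
    rw [hg]; exact hQ (Subgroup.mem_zpowers x)
  rw [Sylow.coe_subgroup_smul, Subgroup.pointwise_smul_def] at hxQ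
  obtain ⟨y, hy, hyx⟩ := hxQ
  obtain ⟨t, rfl⟩ := S.exists_el hy
  have hyx' : g * S.el t * g⁻¹ = x := hyx
  have ht : t ≠ 0 := fun h => by
    rw [h, S.el_zero, mul_one, mul_inv_cancel] at hyx'
    rw [← hyx', orderOf_one] at hx
    exact (Fact.out : p.Prime).ne_one hx.symm
  have hfx : A[t] (g[g⁻¹] v) = g[g⁻¹] v := by
    apply app_injective (g : MulAut (V3 K))
    rw [← app_mul, ← app_mul, ← Subgroup.coe_mul, ← Subgroup.coe_mul, hyx',
      hv x hxH, Subgroup.coe_inv, app_self_inv]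
  obtain ⟨hy1, hy2⟩ := S.el_fixed ht hfx
  have e : g[g] (0, 0, (g[g⁻¹] v).2.2) = v := by
    rw [show ((0 : K), (0 : K), (g[g⁻¹] v).2.2) = g[g⁻¹] v from
      Prod.ext hy1.symm (Prod.ext hy2.symm rfl), Subgroup.coe_inv, app_self_inv]
  have := S.plane_axis g (w := (g[g⁻¹] v).2.2) (by rw [e, h1])
  rw [e] at this
  exact h2 this

include S in
/-- The points of the axis fixed by the stabiliser of a point of `cd` off the axis. -/
theorem fixed_axis [Finite K] (hneg : NegProp K p) (htor : HasTorus G)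
    (hnn : ¬ (S.T : Subgroup G).Normal) {v : K × K × K} (h1 : v.1 = 0) (h2 : v.2.1 ≠ 0) {δ : K}
    (hfix : ∀ h : G, g[h] v = v → g[h] (0, 0, δ) = (0, 0, δ)) :
    ∃ i : ℤ, ((0 : K), (0 : K), δ) = i • E := by
  classical
  obtain ⟨h₀, hh₀, hh₀v⟩ := S.exists_stab hneg htor hnn h1 h2
  let Kv : Subgroup G :=
    { carrier := {h | g[h] v = v}
      one_mem' := app_one v
      mul_mem' := fun {a b} ha hb => by
        show g[a * b] v = v
        rw [Subgroup.coe_mul, app_mul, hb, ha]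
      inv_mem' := fun {a} ha => by
        show g[a⁻¹] v = v
        conv_lhs => rw [← ha]
        rw [Subgroup.coe_inv, app_inv_self] }
  let P : AddSubgroup K :=
    { carrier := {t | ∀ h : G, g[h] v = v → g[h] (0, 0, 2 * t * v.2.1) = (0, 0, 2 * t * v.2.1)}
      zero_mem' := fun h _ => by rw [mul_zero, zero_mul]; exact map_zero _
      add_mem' := fun {a b} ha hb h hh => by
        rw [show ((0 : K), (0 : K), 2 * (a + b) * v.2.1) =
          (0, 0, 2 * a * v.2.1) + (0, 0, 2 * b * v.2.1) by simp; ring, map_add, ha h hh, hb h hh]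
      neg_mem' := fun {a} ha h hh => by
        rw [show ((0 : K), (0 : K), 2 * (-a) * v.2.1) = -(0, 0, 2 * a * v.2.1) by simp, map_neg,
          ha h hh] }
  let M : Subgroup G :=
    { carrier := {x | ∃ t ∈ P, x = S.el t}
      one_mem' := ⟨0, P.zero_mem, S.el_zero.symm⟩
      mul_mem' := fun {a b} ⟨t, ht, ha⟩ ⟨u, hu, hb⟩ =>
        ⟨t + u, P.add_mem ht hu, by rw [ha, hb, S.el_add]⟩
      inv_mem' := fun {a} ⟨t, ht, ha⟩ => ⟨-t, P.neg_mem ht, by rw [ha, S.el_neg]⟩ }
  set t₁ := S.e / (2 * v.2.1) with ht₁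
  set t₂ := δ / (2 * v.2.1) with ht₂
  have h2' := S.two_ne
  have ht₁P : t₁ ∈ P := fun h _ => by
    rw [show 2 * t₁ * v.2.1 = S.e by rw [ht₁]; field_simp]
    exact S.fix h
  have ht₂P : t₂ ∈ P := fun h hh => by
    rw [show 2 * t₂ * v.2.1 = δ by rw [ht₂]; field_simp]
    exact hfix h hh
  have hMT : M ≤ (S.T : Subgroup G) := fun x ⟨t, _, hx⟩ => hx ▸ S.el_mem t
  have hnorm : M ≤ Subgroup.normalizer (Kv : Set G) := by
    have hconj : ∀ t ∈ P, ∀ h ∈ Kv, S.el t * h * (S.el t)⁻¹ ∈ Kv := by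
      intro t ht h hh
      have hh' : g[h] v = v := hh
      have hz : g[(S.el t)⁻¹] v = v + (0, 0, 2 * (-t) * v.2.1) := by
        rw [← S.el_neg, S.el_app_plane _ h1]
      show g[S.el t * h * (S.el t)⁻¹] v = v
      rw [Subgroup.coe_mul, app_mul, hz, Subgroup.coe_mul, app_mul, map_add, hh',
        (P.neg_mem ht) h hh', ← hz, ← app_mul, ← Subgroup.coe_mul, mul_inv_cancel,
        Subgroup.coe_one, app_one]
    intro x ⟨t, ht, hx⟩
    subst hx
    refine Subgroup.mem_normalizer_iff.2 fun h => ⟨hconj t ht h, fun hh => ?_⟩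
    have := hconj (-t) (P.neg_mem ht) _ hh
    rwa [S.el_neg, inv_inv, show (S.el t)⁻¹ * (S.el t * h * (S.el t)⁻¹) * S.el t = h by group]
      at this
  have hp' : ¬ p ∣ Nat.card Kv := S.not_dvd_stab Kv h1 h2 fun _ hx => hx
  have hcard : Nat.card M ≤ p := by
    by_contra hc
    exact hh₀ (le_normalizer_of_noncyclic hneg M Kv hMT (not_le.1 hc) hnorm hp' hh₀v)
  have hne : S.el t₁ ≠ 1 := fun h => by
    have := S.el_injective (h.trans S.el_zero.symm)
    rw [ht₁] at this
    exact div_ne_zero S.e_ne (mul_ne_zero h2' h2) this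
  have hz : Subgroup.zpowers (S.el t₁) = M :=
    Subgroup.eq_of_le_of_card_ge (Subgroup.zpowers_le.2 ⟨t₁, ht₁P, rfl⟩) (by
      rwa [Nat.card_zpowers, orderOf_eq_prime (S.el_pow_p t₁) hne])
  obtain ⟨i, hi⟩ := Subgroup.mem_zpowers_iff.1 (hz ▸ (⟨t₂, ht₂P, rfl⟩ : S.el t₂ ∈ M) :
    S.el t₂ ∈ Subgroup.zpowers (S.el t₁))
  have hpow : ∀ n : ℕ, S.el t₁ ^ n = S.el ((n : K) * t₁) := S.el_pow t₁
  refine ⟨i, ?_⟩
  have hti : t₂ = (i : K) * t₁ := by
    refine S.el_injective ?_
    rcases Int.eq_nat_or_neg i with ⟨n, rfl | rfl⟩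
    · rw [← hi, zpow_natCast, hpow, Int.cast_natCast]
    · rw [← hi, zpow_neg, zpow_natCast, hpow, ← S.el_neg, Int.cast_neg, Int.cast_natCast, neg_mul]
  rw [ht₁, ht₂] at hti
  field_simp at hti
  refine Prod.ext ?_ (Prod.ext ?_ ?_) <;> simp [zsmul_eq_mul]
  linear_combination hti

end Setup

end CfsgLib.Fusion.SpFour.OddA
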