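import Cfsg.Agent.Lib.Fusion.SpFour.OddA.Normaliser
import Cfsg.Agent.Lib.Invol.BrauerSuzuki
import Cfsg.Agent.Lib.FT.OddOrder
import Cfsg.Agent.Lib.Coprime.Generation

/-!
The involution of the torus: its centraliser is not contained in `N(T)`.
-/

set_option autoImplicit false
set_option linter.style.haveILetI false
set_option linter.unusedSectionVars false

namespace CfsgLib.Fusion.SpFour.OddA

open Cfsg
open scoped commutatorElement

variable {K : Type*} [Field K]

namespace Setup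

variable {p : ℕ} [Fact p.Prime] [CharP K p] {G : Subgroup (MulAut (V3 K))} (S : Setup p G)

local notation "A[" t "]" => app ((S.el t : G) : MulAut (V3 K))
local notation "g[" g "]" => app ((g : G) : MulAut (V3 K))
local notation "N" => Subgroup.normalizer ((S.T : Subgroup G) : Set G)

theorem mem_of_conj_el {g : G} {t t' : K} [Finite K] (hneg : NegProp K p) (ht : t ≠ 0)
    (h : g * S.el t * g⁻¹ = S.el t') : g ∈ N :=
  S.mem_normalizer_of_pres hneg (S.pres_of_conj ht h)

theorem eq_el_of_pElement {g : G} (hg : g ∈ N) (k : ℕ) (hk : g ^ p ^ k = 1) :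
    ∃ t, g = S.el t := by
  have hP : IsPGroup p (Subgroup.zpowers g) := by
    intro x
    obtain ⟨j, hj⟩ := Subgroup.mem_zpowers_iff.1 x.2
    refine ⟨k, Subtype.ext ?_⟩
    rw [Subgroup.coe_pow, Subgroup.coe_one, ← hj, ← zpow_natCast, ← zpow_mul, mul_comm, zpow_mul,
      zpow_natCast, hk, one_zpow]
  have := hP.to_sup_of_normal_right' S.T.2 (Subgroup.zpowers_le.2 hg)
  refine S.exists_el ?_
  rw [← S.T.is_maximal' this le_sup_right]
  exact Subgroup.mem_sup_left (Subgroup.mem_zpowers g)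

include S in
/-- A vector off the axis in `cd` has its `C`-coset stabilised by some `a_t`, but lies in no
conjugate axis. -/
theorem plane_axis [Finite K] (g : G) {w : K} (hw : (g[g] (0, 0, w)).1 = 0) :
    (g[g] (0, 0, w)).2.1 = 0 := by
  by_contra hc
  set v := g[g] (0, 0, w) with hv
  let Γ : Subgroup G :=
    { carrier := {h | ∃ j : ℤ, g[h] v = v + j • (0, 0, S.e)}
      one_mem' := ⟨0, by simp [app_one]⟩
      mul_mem' := fun {a b} ⟨i, hi⟩ ⟨j, hj⟩ => ⟨i + j, by
        rw [Subgroup.coe_mul, app_mul, hj, map_add, hi, map_zsmul, S.fix, add_smul, add_assoc]⟩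
      inv_mem' := fun {a} ⟨i, hi⟩ => ⟨-i, by
        apply app_injective ((a : G) : MulAut (V3 K))
        rw [Subgroup.coe_inv, app_self_inv, map_add, hi, map_zsmul, S.fix, add_assoc, ← add_smul,
          add_neg_cancel, zero_smul, add_zero]⟩ }
  -- the stabiliser contains the conjugate Sylow subgroup
  have hmem : ∀ t, g * S.el t * g⁻¹ ∈ Γ ∧ g[g * S.el t * g⁻¹] v = v := by
    intro t
    have : g[g * S.el t * g⁻¹] v = v := by
      rw [hv, Subgroup.coe_mul, Subgroup.coe_mul, app_mul, app_mul, Subgroup.coe_inv, app_inv_self,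
        S.el_fixD t w]
    exact ⟨⟨0, by rw [this, zero_smul, add_zero]⟩, this⟩
  have hle : ((g • S.T : Sylow p G) : Subgroup G) ≤ Γ := by
    intro x hx
    rw [Sylow.coe_subgroup_smul, Subgroup.pointwise_smul_def] at hx
    obtain ⟨y, hy, rfl⟩ := hx
    obtain ⟨t, rfl⟩ := S.exists_el hy
    exact (hmem t).1
  let Q : Sylow p Γ := (g • S.T).subtype hle
  obtain ⟨t, ht0, ht⟩ : ∃ t : K, t ≠ 0 ∧ A[t] v = v + (0, 0, S.e) := by
    refine ⟨S.e / (2 * v.2.1), div_ne_zero S.e_ne (mul_ne_zero S.two_ne hc), ?_⟩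
    rw [S.el_app', hw]
    refine Prod.ext ?_ (Prod.ext ?_ ?_) <;> simp [hw]
    have := S.two_ne
    field_simp
  have htΓ : S.el t ∈ Γ := ⟨1, by rw [one_smul]; exact ht⟩
  have hP : IsPGroup p (Subgroup.zpowers (⟨S.el t, htΓ⟩ : Γ)) := by
    intro x
    obtain ⟨k, hk⟩ := Subgroup.mem_zpowers_iff.1 x.2
    refine ⟨1, Subtype.ext ?_⟩
    rw [pow_one, Subgroup.coe_pow, Subgroup.coe_one, ← hk, ← zpow_natCast, ← zpow_mul, mul_comm,
      zpow_mul, zpow_natCast, show (⟨S.el t, htΓ⟩ : Γ) ^ p = 1 from Subtype.ext (S.el_pow_p t),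
      one_zpow]
  obtain ⟨Q', hQ'⟩ := hP.exists_le_sylow
  obtain ⟨k, hk⟩ := MulAction.exists_smul_eq Γ Q' Q
  have hmem' : k * ⟨S.el t, htΓ⟩ * k⁻¹ ∈ (Q : Subgroup Γ) := by
    rw [← hk, Sylow.coe_subgroup_smul, Subgroup.pointwise_smul_def]
    exact ⟨_, hQ' (Subgroup.mem_zpowers _), rfl⟩
  have hfix : g[(k : G) * S.el t * (k : G)⁻¹] v = v := by
    have h1 : ((k : G) * S.el t * (k : G)⁻¹) ∈ ((g • S.T : Sylow p G) : Subgroup G) := hmem'
    rw [Sylow.coe_subgroup_smul, Subgroup.pointwise_smul_def] at h1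
    obtain ⟨y, hy, hyx⟩ := h1
    obtain ⟨s, rfl⟩ := S.exists_el hy
    rw [← hyx]
    exact (hmem s).2
  obtain ⟨i, hi⟩ := (inv_mem k.2 : (k : G)⁻¹ ∈ Γ)
  rw [Subgroup.coe_mul, Subgroup.coe_mul, app_mul, app_mul, hi, map_add, map_add, ht, map_zsmul,
    map_zsmul, S.el_fixD t, S.fix, map_add, S.fix] at hfix
  have h3 : g[(k : G)] v + i • (0, 0, S.e) = v := by
    have := congrArg g[(k : G)] hi
    rw [Subgroup.coe_inv, app_self_inv, map_add, map_zsmul, S.fix] at this
    exact this.symm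
  rw [add_assoc, add_comm (0, 0, S.e), ← add_assoc, h3, add_eq_left] at hfix
  exact S.e_ne (by simpa using hfix)

/-- The data of the torus involution. -/
structure Invol where
  /-- The involution. -/
  τ : G
  mem : τ ∈ N
  fixD : FixD (τ : MulAut (V3 K))
  sq : τ * τ = 1
  inv : ∀ t, τ * S.el t * τ⁻¹ = S.el (-t)
  layer₁ : ∀ b c d, (g[τ] (b, c, d)).1 = b
  layer₂ : ∀ c d, (g[τ] (0, c, d)).2.1 = -c

theorem exists_invol [Finite K] (hneg : NegProp K p) {g : G}
    (hf : FixD (g : MulAut (V3 K))) (h1 : ∀ b c d, (g[g] (b, c, d)).1 = b)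
    (h2 : ∀ c d, (g[g] (0, c, d)).2.1 = -c) : Nonempty S.Invol := by
  have hgN := S.mem_normalizer_of_pres hneg hf.pres
  obtain ⟨a, ha, hat, hc, hb⟩ := S.exists_scalar hgN hf
  have ha1 : a = -1 := by
    have := (hc 1 0).symm.trans (h2 1 0)
    field_simp at this
    linear_combination this
  subst ha1
  have hg2 : g * g ∈ (S.T : Subgroup G) := by
    refine S.mem_of_scalar_one (mul_mem hgN hgN) (hf.mul hf) fun t => ?_
    rw [mul_inv_rev, show g * g * S.el t * (g⁻¹ * g⁻¹) = g * (g * S.el t * g⁻¹) * g⁻¹ by group,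
      hat, hat]
    congr 1; ring
  obtain ⟨s, hs⟩ := S.exists_el hg2
  obtain ⟨n, hn⟩ : ∃ n : ℕ, p = 2 * n + 1 :=
    (Fact.out : p.Prime).odd_of_ne_two S.hp
  have hτ : g ^ p = g * S.el ((n : K) * s) := by
    calc g ^ p = g ^ (2 * n + 1) := by rw [← hn]
      _ = g * S.el ((n : K) * s) := by rw [pow_succ', pow_mul, pow_two, hs, S.el_pow]
  have hsq : g ^ p * g ^ p = 1 := by
    rw [← pow_two, ← pow_mul, mul_comm, pow_mul, pow_two, hs, S.el_pow_p]
  obtain ⟨u, hu⟩ : ∃ u, g ^ p = g * S.el u := ⟨_, hτ⟩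
  refine ⟨⟨g * S.el u, mul_mem hgN (S.el_mem_normalizer u), hf.mul (S.el_fixD u), hu ▸ hsq,
    fun t => ?_, fun b c d => ?_, fun c d => ?_⟩⟩
  · rw [mul_inv_rev, show g * S.el u * S.el t * ((S.el u)⁻¹ * g⁻¹) =
      g * (S.el u * S.el t * (S.el u)⁻¹) * g⁻¹ by group, ← S.el_add, ← S.el_neg, ← S.el_add, hat]
    congr 1; ring
  · rw [Subgroup.coe_mul, app_mul, S.el_app, h1]
  · rw [Subgroup.coe_mul, app_mul, S.el_app, mul_zero, add_zero, h2]

variable {S}

theorem Invol.ne_one (I : S.Invol) : I.τ ≠ 1 := fun h => by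
  have := I.layer₂ 1 0
  rw [h, Subgroup.coe_one, app_one] at this
  have h2 : (2 : K) = 0 := by linear_combination this
  exact S.two_ne h2

theorem Invol.app_self (I : S.Invol) (v : K × K × K) : g[I.τ] (g[I.τ] v) = v := by
  rw [← app_mul, ← Subgroup.coe_mul, I.sq, Subgroup.coe_one, app_one]

theorem Invol.anti_plane (I : S.Invol) {v : K × K × K} (h : g[I.τ] v = -v) : v.1 = 0 := by
  have h1 := congrArg Prod.fst h
  rw [show v = (v.1, v.2.1, v.2.2) from rfl, I.layer₁] at h1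
  simp only [Prod.neg_mk] at h1
  exact (mul_eq_zero.1 (show (2 : K) * v.1 = 0 by linear_combination h1)).resolve_left S.two_ne

theorem Invol.anti_axis (I : S.Invol) {v : K × K × K} (h : g[I.τ] v = -v) (hv : v.2.1 = 0) :
    v = 0 := by
  have hv1 := I.anti_plane h
  have e : v = (0, 0, v.2.2) := Prod.ext hv1 (Prod.ext hv rfl)
  rw [e, I.fixD] at h
  have h3 := congrArg (fun z : K × K × K => z.2.2) h
  simp only [Prod.neg_mk] at h3
  have : v.2.2 = 0 :=
    (mul_eq_zero.1 (show (2 : K) * v.2.2 = 0 by linear_combination h3)).resolve_left S.two_ne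
  rw [e, this]; rfl

theorem Invol.fix_plane (I : S.Invol) {v : K × K × K} (h : g[I.τ] v = v) (hv : v.1 = 0) :
    v.2.1 = 0 := by
  have h1 := congrArg (fun z : K × K × K => z.2.1) h
  rw [show v = (0, v.2.1, v.2.2) from Prod.ext hv rfl, I.layer₂] at h1
  exact (mul_eq_zero.1 (show (2 : K) * v.2.1 = 0 by linear_combination -h1)).resolve_left S.two_ne

/-- An element of `N(T)` conjugate to the involution and fixing the axis pointwise. -/
theorem Invol.eq_of_scalar (I : S.Invol) {σ : G} (hσ : σ ∈ N) (hf : FixD (σ : MulAut (V3 K)))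
    (hsq : σ * σ = 1) (h1 : σ ≠ 1) : ∃ s, σ = I.τ * S.el s := by
  obtain ⟨a, ha, hat, -, -⟩ := S.exists_scalar hσ hf
  have ha2 : a * a = 1 := by
    have h := hat (a * 1)
    rw [← hat 1, show σ * (σ * S.el 1 * σ⁻¹) * σ⁻¹ = σ * σ * S.el 1 * (σ * σ)⁻¹ by group, hsq,
      one_mul, inv_one, mul_one] at h
    have := S.el_injective h
    linear_combination -this
  rcases mul_self_eq_one_iff.1 ha2 with rfl | rfl
  · exfalso
    obtain ⟨t, ht⟩ := S.exists_el (S.mem_of_scalar_one hσ hf fun t => by rw [hat, one_mul])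
    refine h1 ?_
    rw [ht, ← S.el_add] at hsq
    have h2 := S.el_injective (hsq.trans S.el_zero.symm)
    rw [ht, (mul_eq_zero.1 (show (2 : K) * t = 0 by linear_combination h2)).resolve_left S.two_ne,
      S.el_zero]
  · obtain ⟨t, ht⟩ := S.exists_el (S.mem_of_scalar_one (mul_mem I.mem hσ) (I.fixD.mul hf) fun t => by
      rw [mul_inv_rev, show I.τ * σ * S.el t * (σ⁻¹ * I.τ⁻¹) =
        I.τ * (σ * S.el t * σ⁻¹) * I.τ⁻¹ by group, hat, I.inv]
      congr 1; ring)
    exact ⟨t, by rw [← ht, ← mul_assoc, I.sq, one_mul]⟩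

/-- If the involution fixes the conjugate Sylow subgroup, it fixes that axis pointwise. -/
theorem Invol.fixD_conj [Finite K] (I : S.Invol) {g : G} (h : g⁻¹ * I.τ * g ∈ N) :
    FixD ((g⁻¹ * I.τ * g : G) : MulAut (V3 K)) := by
  intro x
  set y := g[g⁻¹ * I.τ * g] (0, 0, x) with hy
  have hp := S.pres_of_mem_normalizer h x
  rw [← hy] at hp
  have hye : y = (0, 0, y.2.2) := Prod.ext hp.1 (Prod.ext hp.2 rfl)
  have hgy : g[g] y = g[I.τ] (g[g] (0, 0, x)) := by
    rw [hy, Subgroup.coe_mul, Subgroup.coe_mul, app_mul, app_mul, Subgroup.coe_inv, app_self_inv]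
  have hd : (0, 0, x) - y = (0, 0, x - y.2.2) := by rw [hye]; simp
  have hanti : g[I.τ] (g[g] (0, 0, x - y.2.2)) = -(g[g] (0, 0, x - y.2.2)) := by
    rw [← hd, map_sub, map_sub, hgy, I.app_self, neg_sub]
  have h0 : g[g] (0, 0, x - y.2.2) = 0 :=
    I.anti_axis hanti (S.plane_axis g (I.anti_plane hanti))
  rw [← hd] at h0
  exact ((sub_eq_zero.1 (app_injective _ (h0.trans (map_zero _).symm))) ).symm

/-- Transitivity of the centraliser on the fixed Sylow subgroups. -/
theorem Invol.exists_cent [Finite K] (I : S.Invol) {g : G} (h : g⁻¹ * I.τ * g ∈ N) :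
    ∃ x : G, x * I.τ = I.τ * x ∧ (x ∈ N → g ∈ N) := by
  obtain ⟨s, hs⟩ := I.eq_of_scalar h (I.fixD_conj h)
    (by rw [show g⁻¹ * I.τ * g * (g⁻¹ * I.τ * g) = g⁻¹ * (I.τ * I.τ) * g by group, I.sq, mul_one,
      inv_mul_cancel])
    (fun e => I.ne_one (by
      calc I.τ = g * (g⁻¹ * I.τ * g) * g⁻¹ := by group
        _ = 1 := by rw [e, mul_one, mul_inv_cancel]))
  obtain ⟨r, hr⟩ : ∃ r, r + r = s := ⟨s / 2, by have := S.two_ne; field_simp; ring⟩
  refine ⟨g * S.el (-r), ?_, fun hx => ?_⟩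
  · have hcomm : ∀ u, I.τ * S.el u = S.el (-u) * I.τ := fun u => by
      rw [← I.inv u]; group
    calc g * S.el (-r) * I.τ = g * (I.τ * S.el r) := by
          rw [hcomm r]; group
      _ = g * (I.τ * S.el s) * S.el (-r) := by
          rw [← hr]
          simp only [mul_assoc, ← S.el_add]
          congr 3; ring
      _ = I.τ * (g * S.el (-r)) := by rw [← hs]; group
  · have := mul_mem hx (inv_mem (S.el_mem_normalizer (-r)))
    simpa using this

theorem Invol.pElement_eq_one [Finite K] (hneg : NegProp K p) (I : S.Invol) {x : G}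
    (hx : x * I.τ = I.τ * x) (k : ℕ) (hk : x ^ p ^ k = 1) : x = 1 := by
  have hP : IsPGroup p (Subgroup.zpowers x) := by
    intro y
    obtain ⟨j, hj⟩ := Subgroup.mem_zpowers_iff.1 y.2
    refine ⟨k, Subtype.ext ?_⟩
    rw [Subgroup.coe_pow, Subgroup.coe_one, ← hj, ← zpow_natCast, ← zpow_mul, mul_comm, zpow_mul,
      zpow_natCast, hk, one_zpow]
  obtain ⟨Q, hQ⟩ := hP.exists_le_sylow
  obtain ⟨g, hg⟩ := MulAction.exists_smul_eq G S.T Q
  have hxQ : x ∈ ((g • S.T : Sylow p G) : Subgroup G) := by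
    rw [hg]; exact hQ (Subgroup.mem_zpowers x)
  rw [Sylow.coe_subgroup_smul, Subgroup.pointwise_smul_def] at hxQ
  obtain ⟨y, hy, hyx⟩ := hxQ
  obtain ⟨t, rfl⟩ := S.exists_el hy
  have hyx' : g * S.el t * g⁻¹ = x := hyx
  by_contra hne
  have ht : t ≠ 0 := fun h => hne (by rw [← hyx', h, S.el_zero, mul_one, mul_inv_cancel])
  set σ := g⁻¹ * I.τ * g with hσ
  have hcomm : σ * S.el t * σ⁻¹ = S.el t := by
    rw [hσ, show S.el t = g⁻¹ * x * g by rw [← hyx']; group]
    calc g⁻¹ * I.τ * g * (g⁻¹ * x * g) * (g⁻¹ * I.τ * g)⁻¹ = g⁻¹ * (I.τ * x * I.τ⁻¹) * g := by group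
      _ = g⁻¹ * x * g := by rw [← hx, mul_inv_cancel_right]
  have hN := S.mem_of_conj_el hneg ht hcomm
  obtain ⟨s, hs⟩ := I.eq_of_scalar hN (I.fixD_conj hN)
    (by rw [hσ, show g⁻¹ * I.τ * g * (g⁻¹ * I.τ * g) = g⁻¹ * (I.τ * I.τ) * g by group, I.sq,
      mul_one, inv_mul_cancel])
    (fun e => I.ne_one (by
      calc I.τ = g * σ * g⁻¹ := by rw [hσ]; group
        _ = 1 := by rw [e, mul_one, mul_inv_cancel]))
  rw [hs, show I.τ * S.el s * S.el t * (I.τ * S.el s)⁻¹ =
    I.τ * (S.el s * S.el t * (S.el s)⁻¹) * I.τ⁻¹ by group, ← S.el_add, ← S.el_neg, ← S.el_add,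
    add_comm s t, add_neg_cancel_right, I.inv] at hcomm
  exact ht ((mul_eq_zero.1 (show (2 : K) * t = 0 by
    linear_combination -(S.el_injective hcomm))).resolve_left S.two_ne)

theorem not_isCyclic_of_card (H : Subgroup G) (hexp : ∀ x ∈ H, x ^ p = 1)
    (hc : p < Nat.card H) : ¬ IsCyclic H := by
  intro h
  obtain ⟨x, hx⟩ := IsCyclic.exists_generator (α := H)
  have h1 : orderOf x = Nat.card H := orderOf_eq_card_of_forall_mem_zpowers hx
  have h2 : orderOf x ≤ p :=
    orderOf_le_of_pow_eq_one (Fact.out : p.Prime).pos (Subtype.ext (hexp x x.2))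
  omega

variable (S) in
theorem isPGroup_zpowers_el (t : K) : IsPGroup p (Subgroup.zpowers (S.el t)) :=
  S.T.2.to_le (Subgroup.zpowers_le.2 (S.el_mem t))

/-- A `p'`-subgroup normalised by a noncyclic subgroup of `T` lies in `N(T)`. -/
theorem le_normalizer_of_noncyclic [Finite K] (hneg : NegProp K p) (A E : Subgroup G)
    (hA : A ≤ (S.T : Subgroup G)) (hc : p < Nat.card A)
    (hAE : A ≤ Subgroup.normalizer (E : Set G)) (hE : ¬ p ∣ Nat.card E) : E ≤ N := by
  have hab : IsMulCommutative A := ⟨⟨fun a b => Subtype.ext (by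
    obtain ⟨s, hs⟩ := S.exists_el (hA a.2)
    obtain ⟨t, ht⟩ := S.exists_el (hA b.2)
    rw [Subgroup.coe_mul, Subgroup.coe_mul, hs, ht, ← S.el_add, ← S.el_add, add_comm])⟩⟩
  have hnc : ¬ IsCyclic A := not_isCyclic_of_card A (fun x hx => by
    obtain ⟨t, rfl⟩ := S.exists_el (hA hx)
    exact S.el_pow_p t) hc
  have hcop : (Nat.card A).Coprime (Nat.card E) := by
    obtain ⟨n, hn⟩ := (IsPGroup.iff_card.1 (S.T.2.to_le hA))
    rw [hn]
    exact Nat.Coprime.pow_left n ((Fact.out : p.Prime).coprime_iff_not_dvd.2 hE)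
  rw [← CfsgLib.Coprime.iSup_centralizer_eq hab hnc hAE hcop]
  refine iSup_le fun a x hx => ?_
  obtain ⟨t, ht⟩ := S.exists_el (hA a.2.1)
  have ht0 : t ≠ 0 := fun h => a.2.2 (by rw [ht, h, S.el_zero])
  have hxa : x * S.el t = S.el t * x := ht ▸ Subgroup.mem_centralizer_singleton_iff.1 hx.2
  exact S.mem_of_conj_el hneg ht0 (t' := t) (by rw [hxa, mul_inv_cancel_right])

/-- The centraliser of the involution is not contained in `N(T)`. -/
theorem Invol.exists_not_mem [Finite K] (hneg : NegProp K p) (I : S.Invol) (hq : p < Nat.card K)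
    (hnn : ¬ (S.T : Subgroup G).Normal) : ∃ x : G, x * I.τ = I.τ * x ∧ x ∉ N := by
  by_contra hall
  push Not at hall
  have hfixed : ∀ {g : G}, g⁻¹ * I.τ * g ∈ N → g ∈ N := fun h => by
    obtain ⟨x, hx, hxg⟩ := I.exists_cent h
    exact hxg (hall x hx)
  have hiso : Cfsg.IsIsolatedInvolution I.τ := by
    refine ⟨orderOf_eq_prime (by rw [pow_two, I.sq]) I.ne_one, fun g hg => ?_⟩
    set σ := g * I.τ * g⁻¹ with hσ
    have hσN : σ ∈ N := hall σ hg.eq.symm
    have hgN : g⁻¹ ∈ N := hfixed (by rwa [inv_inv])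
    have hf : FixD ((g⁻¹⁻¹ * I.τ * g⁻¹ : G) : MulAut (V3 K)) := I.fixD_conj (by rwa [inv_inv])
    rw [inv_inv] at hf
    obtain ⟨s, hs⟩ := I.eq_of_scalar hσN hf
      (by rw [hσ, show g * I.τ * g⁻¹ * (g * I.τ * g⁻¹) = g * (I.τ * I.τ) * g⁻¹ by group, I.sq,
        mul_one, mul_inv_cancel])
      (fun e => I.ne_one (by
        calc I.τ = g⁻¹ * σ * g := by rw [hσ]; group
          _ = 1 := by rw [e, mul_one, inv_mul_cancel]))
    have h1 : I.τ * S.el s * I.τ⁻¹ = S.el s := by
      have h2 := hg.eq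
      rw [hs] at h2
      rw [mul_inv_eq_iff_eq_mul]
      exact mul_left_cancel (a := I.τ) (by rw [h2, mul_assoc])
    rw [I.inv] at h1
    rw [hs, (mul_eq_zero.1 (show (2 : K) * s = 0 by
      linear_combination -(S.el_injective h1))).resolve_left S.two_ne, S.el_zero, mul_one]
  set O := oddCore G with hO
  have hTO : (S.T : Subgroup G) ≤ O := by
    intro x hx
    obtain ⟨t, rfl⟩ := S.exists_el hx
    have h := CfsgLib.Invol.zstar G hiso (S.el (-(t / 2)))
    rw [I.inv, ← S.el_neg, ← S.el_add] at h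
    rwa [show -(-(t / 2)) + -(-(t / 2)) = t by have := S.two_ne; field_simp; ring] at h
  have hOodd : Odd (Nat.card O) := CfsgLib.Invol.odd_card_oddCore G
  have hOsolv : Group.IsSolvable O := CfsgLib.FT.odd_order_solvable hOodd
  -- an abelian normal subgroup of `G` inside `O`
  obtain ⟨E, hEn, hEab, hEne⟩ : ∃ E : Subgroup G, E.Normal ∧
      (∀ a ∈ E, ∀ b ∈ E, a * b = b * a) ∧ E ≠ ⊥ := by
    obtain ⟨n, hn⟩ := hOsolv
    classical
    have hO1 : derivedSeries O 0 ≠ ⊥ := by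
      rw [derivedSeries_zero]
      intro h
      have h1 : S.el 1 = 1 := by
        have h2 : (⟨S.el 1, hTO (S.el_mem 1)⟩ : O) ∈ (⊥ : Subgroup O) := h ▸ Subgroup.mem_top _
        exact congrArg Subtype.val (Subgroup.mem_bot.1 h2)
      exact one_ne_zero (S.el_injective (h1.trans S.el_zero.symm))
    have hex : ∃ m, derivedSeries O m = ⊥ := ⟨n, hn⟩
    obtain ⟨m, hm⟩ : ∃ m, Nat.find hex = m + 1 :=
      Nat.exists_eq_succ_of_ne_zero fun h => hO1 (h ▸ Nat.find_spec hex)
    refine ⟨(derivedSeries O m).map O.subtype, ?_, ?_, ?_⟩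
    · haveI : (derivedSeries O m).Characteristic := derivedSeries_characteristic O m
      infer_instance
    · rintro _ ⟨a, ha, rfl⟩ _ ⟨b, hb, rfl⟩
      have h1 : ⁅a, b⁆ ∈ derivedSeries O (m + 1) := by
        rw [derivedSeries_succ]; exact Subgroup.commutator_mem_commutator ha hb
      rw [← hm, Nat.find_spec hex, Subgroup.mem_bot, commutatorElement_eq_one_iff_mul_comm] at h1
      exact congrArg Subtype.val h1
    · intro h
      refine Nat.find_min hex (m := m) (by omega) ?_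
      exact (Subgroup.map_eq_bot_iff_of_injective _ O.subtype_injective).1 h
  have hp' : ¬ p ∣ Nat.card E := by
    intro hd
    obtain ⟨⟨x, hxE⟩, hx⟩ := exists_prime_orderOf_dvd_card' p hd
    rw [Subgroup.orderOf_mk] at hx
    have hP : IsPGroup p (Subgroup.zpowers x) :=
      IsPGroup.of_card (n := 1) (by rw [Nat.card_zpowers, hx, pow_one])
    obtain ⟨Q, hQ⟩ := hP.exists_le_sylow
    obtain ⟨g, hg⟩ := MulAction.exists_smul_eq G Q S.T
    have hy : g * x * g⁻¹ ∈ (S.T : Subgroup G) := by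
      rw [← hg, Sylow.coe_subgroup_smul, Subgroup.pointwise_smul_def]
      exact ⟨x, hQ (Subgroup.mem_zpowers x), rfl⟩
    obtain ⟨t, ht⟩ := S.exists_el hy
    have ht0 : t ≠ 0 := fun h => by
      rw [h, S.el_zero, mul_inv_eq_one, mul_eq_left] at ht
      rw [ht, orderOf_one] at hx
      exact (Fact.out : p.Prime).ne_one hx.symm
    refine hnn ⟨fun z hz h => ?_⟩
    have hmem : h ∈ N := by
      have hz' : h * S.el t * h⁻¹ ∈ E := hEn.conj_mem _ (ht ▸ hEn.conj_mem x hxE g) h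
      have hcomm : (h * S.el t * h⁻¹) * S.el t = S.el t * (h * S.el t * h⁻¹) :=
        hEab _ hz' _ (ht ▸ hEn.conj_mem x hxE g)
      obtain ⟨t', ht'⟩ := S.eq_el_of_pElement
        (S.mem_of_conj_el hneg ht0 (t' := t) (by rw [hcomm, mul_inv_cancel_right])) 1
        (by rw [pow_one, conj_pow, S.el_pow_p, mul_one, mul_inv_cancel])
      exact S.mem_of_conj_el hneg ht0 ht'
    exact (Subgroup.mem_normalizer_iff.1 hmem z).1 hz
  have hEN : E ≤ N := le_normalizer_of_noncyclic hneg (S.T : Subgroup G) E le_rfl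
    (by
      rw [Nat.card_eq_of_bijective (fun t : K => (⟨S.el t, S.el_mem t⟩ : (S.T : Subgroup G)))
        ⟨fun a b h => S.el_injective (congrArg Subtype.val h), fun ⟨x, hx⟩ => by
          obtain ⟨t, rfl⟩ := S.exists_el hx; exact ⟨t, rfl⟩⟩] at hq
      exact hq)
    (fun x _ => by rw [Subgroup.normalizer_eq_top]; exact Subgroup.mem_top x) hp'
  refine hEne ((Subgroup.eq_bot_iff_forall E).2 fun x hx => ?_)
  -- `x` centralises `T`
  have hcent : ∀ t, x * S.el t * x⁻¹ = S.el t := fun t => by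
    obtain ⟨t', ht'⟩ := S.exists_param (hEN hx) t
    have hmemE : S.el (t' - t) ∈ E := by
      rw [sub_eq_add_neg, S.el_add, ← ht', S.el_neg,
        show x * S.el t * x⁻¹ * (S.el t)⁻¹ = x * (S.el t * x⁻¹ * (S.el t)⁻¹) by group]
      exact mul_mem hx (hEn.conj_mem _ (inv_mem hx) _)
    have h0 : t' - t = 0 := by
      by_contra h
      refine hp' (Dvd.dvd.trans (dvd_of_eq ?_) (Subgroup.orderOf_dvd_natCard _ hmemE))
      exact (orderOf_eq_prime (S.el_pow_p _) fun h1 => h
        (S.el_injective (h1.trans S.el_zero.symm))).symm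
    rw [ht', sub_eq_zero.1 h0]
  -- so it acts on the axis as the identity
  have hfix : FixD (x : MulAut (V3 K)) := by
    have hp := S.pres_of_mem_normalizer (hEN hx)
    have hlin : ∀ s c : K, (g[x] (0, 0, 2 * s * c)).2.2 =
        2 * s * (g[x] (0, c, 0)).2.1 := by
      intro s c
      have h1 := congrArg (fun u : K × K × K => u.2.2) (S.conj_apply (hcent s) (0, c, 0))
      have hd : A[s] (0, c, 0) = (0, c, 0) + (0, 0, 2 * s * c) := by
        rw [S.el_app]; ext <;> simp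
      have hb := S.plane_of_mem_normalizer (hEN hx) (v := (0, c, 0)) rfl
      simp only [hd, map_add, S.el_app', Prod.snd_add, hb, mul_zero, add_zero] at h1
      linear_combination h1
    intro y
    refine Prod.ext (hp y).1 (Prod.ext (hp y).2 ?_)
    have h2 := S.two_ne
    have he := hlin (1 / 2) S.e
    rw [show 2 * (1 / 2) * S.e = S.e by field_simp, S.fix, show (2 : K) * (1 / 2) = 1 by
      field_simp, one_mul] at he
    have := hlin (y / (2 * S.e)) S.e
    rw [← he, show 2 * (y / (2 * S.e)) * S.e = y by have := S.e_ne; field_simp] at this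
    exact this
  obtain ⟨t, rfl⟩ := S.exists_el (S.mem_of_scalar_one (hEN hx) hfix hcent)
  by_contra hne
  refine hp' (Dvd.dvd.trans (dvd_of_eq ?_) (Subgroup.orderOf_dvd_natCard _ hx))
  exact (orderOf_eq_prime (S.el_pow_p t) hne).symm

end Setup

end CfsgLib.Fusion.SpFour.OddA
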