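import Cfsg.Agent.Lib.Fusion.SpFour.OddA.Setup

/-!
The normaliser of `T`: it is the stabiliser of the third axis; the scalar attached to its elements
fixing that axis pointwise.
-/

set_option autoImplicit false
set_option linter.style.haveILetI false
set_option linter.unusedSectionVars false

namespace CfsgLib.Fusion.SpFour.OddA

open Cfsg

variable {K : Type*} [Field K]

/-- The consequence of the spread lemma used here: a group of shears with non-normal Sylow subgroup
contains the inversion. -/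
def NegProp (K : Type*) [Field K] (p : ℕ) : Prop :=
  ∀ (G : Subgroup (MulAut (V2 K))) (T : Sylow p G),
    (∀ g : G, g ∈ (T : Subgroup G) ↔ ∃ t, IsShear (g : MulAut (V2 K)) t) →
    (∀ t : K, ∃ g ∈ G, IsShear g t) → ¬ (T : Subgroup G).Normal → ∃ g ∈ G, ∀ v, g v = v⁻¹

namespace Setup

variable {p : ℕ} [Fact p.Prime] [CharP K p] {G : Subgroup (MulAut (V3 K))} (S : Setup p G)

local notation "A[" t "]" => app ((S.el t : G) : MulAut (V3 K))
local notation "g[" g "]" => app ((g : G) : MulAut (V3 K))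
local notation "N" => Subgroup.normalizer ((S.T : Subgroup G) : Set G)

theorem exists_param {g : G} (hg : g ∈ N) (t : K) : ∃ t', g * S.el t * g⁻¹ = S.el t' :=
  S.exists_el ((Subgroup.mem_normalizer_iff.1 hg _).1 (S.el_mem t))

theorem conj_apply {g : G} {t t' : K} (h : g * S.el t * g⁻¹ = S.el t') (v : K × K × K) :
    g[g] (A[t] v) = A[t'] (g[g] v) := by
  rw [← h, Subgroup.coe_mul, Subgroup.coe_mul, app_mul, app_mul, Subgroup.coe_inv, app_inv_self]

theorem plane_of_mem_normalizer {g : G} (hg : g ∈ N) {v : K × K × K} (hv : v.1 = 0) :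
    (g[g] v).1 = 0 := by
  obtain ⟨t', ht'⟩ := S.exists_param hg 1
  have h1 := congrArg (fun u : K × K × K => u.2.1) (S.conj_apply ht' v)
  have hd : A[1] v = v + (0, 0, 2 * v.2.1) := by
    rw [S.el_app', hv]
    refine Prod.ext ?_ (Prod.ext ?_ ?_) <;> dsimp <;> simp [hv]
  have hp := (S.pres_of_mem_normalizer hg (2 * v.2.1)).2
  simp only [hd, map_add, S.el_app', Prod.snd_add, Prod.fst_add, hp, add_zero] at h1
  have ht'0 : t' ≠ 0 := by
    rintro rfl
    rw [S.el_zero, mul_inv_eq_one, mul_eq_left] at ht'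
    exact one_ne_zero (S.el_injective (ht'.trans S.el_zero.symm))
  exact (mul_eq_zero.1 (show t' * (g[g] v).1 = 0 by linear_combination -h1)).resolve_left ht'0

/-- An element of `N(T)` fixing the third axis pointwise scales the layers. -/
theorem exists_scalar {g : G} (hg : g ∈ N) (hf : FixD (g : MulAut (V3 K))) :
    ∃ a : K, a ≠ 0 ∧ (∀ t, g * S.el t * g⁻¹ = S.el (a * t)) ∧
      (∀ c d, (g[g] (0, c, d)).2.1 = c / a) ∧ ∀ b c d, (g[g] (b, c, d)).1 = b / (a * a) := by
  choose α hα using S.exists_param hg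
  have hrel : ∀ t c : K, α t * (g[g] (0, c, 0)).2.1 = t * c := by
    intro t c
    have h1 := congrArg (fun u : K × K × K => u.2.2) (S.conj_apply (hα t) (0, c, 0))
    have hd : A[t] (0, c, 0) = (0, c, 0) + (0, 0, 2 * t * c) := by
      rw [S.el_app]
      refine Prod.ext ?_ (Prod.ext ?_ ?_) <;> dsimp <;> simp
    have hb := S.plane_of_mem_normalizer hg (v := (0, c, 0)) rfl
    simp only [hd, map_add, hf (2 * t * c), S.el_app', Prod.snd_add, hb, mul_zero, add_zero] at h1
    exact mul_left_cancel₀ S.two_ne (by linear_combination -h1)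
  have h1 := hrel 1 1
  rw [one_mul] at h1
  have ha : α 1 ≠ 0 := left_ne_zero_of_mul (by rw [h1]; exact one_ne_zero)
  have hγ : ∀ c, (g[g] (0, c, 0)).2.1 = c / α 1 := fun c => by
    rw [eq_div_iff ha]; linear_combination hrel 1 c
  have hαl : ∀ t, α t = α 1 * t := fun t => by
    have := hrel t 1
    rw [hγ, mul_one, mul_one_div, div_eq_iff ha] at this
    rw [this]; ring
  have hc : ∀ c d, (g[g] (0, c, d)).2.1 = c / α 1 := fun c d => by
    rw [show ((0, c, d) : K × K × K) = (0, c, 0) + (0, 0, d) by simp, map_add, Prod.snd_add,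
      Prod.fst_add, hγ, hf d, add_zero]
  refine ⟨α 1, ha, fun t => by rw [hα, hαl], hc, fun b c d => ?_⟩
  have h := congrArg (fun u : K × K × K => u.2.1) (S.conj_apply (hα 1) (b, c, d))
  rw [S.el_app, show ((b, c + 1 * b, d + 1 ^ 2 * b + 2 * 1 * c) : K × K × K) =
    (b, c, d) + (0, b, b + 2 * c) by ext <;> dsimp <;> ring, map_add] at h
  simp only [S.el_app', Prod.snd_add, Prod.fst_add, hc] at h
  field_simp at h ⊢
  linear_combination -h

theorem el_mem_normalizer (t : K) : S.el t ∈ N := Subgroup.le_normalizer (S.el_mem t)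

theorem app_pow_of_unipotent {g : MulAut (V3 K)} {v u w : K × K × K} (hv : app g v = v + u)
    (hu : app g u = u + w) (hw : app g w = w) :
    ∀ n : ℕ, app (g ^ n) v = v + n • u + n.choose 2 • w
  | 0 => by simp [app_one]
  | n + 1 => by
    rw [pow_succ', app_mul, app_pow_of_unipotent hv hu hw n, map_add, map_add, map_nsmul,
      map_nsmul, hv, hu, hw, Nat.choose_succ_succ', Nat.choose_one_right, smul_add, add_nsmul,
      add_nsmul, one_nsmul]
    abel

/-- An element of `N(T)` acting trivially on the layers lies in `T`. -/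
theorem mem_of_trivial {g : G} (hg : g ∈ N) (hf : FixD (g : MulAut (V3 K)))
    (hc : ∀ c d, (g[g] (0, c, d)).2.1 = c) (hb : ∀ b c d, (g[g] (b, c, d)).1 = b) :
    g ∈ (S.T : Subgroup G) := by
  have hgp : g ^ p = 1 := by
    refine Subtype.ext (app_ext fun v => ?_)
    rw [Subgroup.coe_pow, Subgroup.coe_one, app_one]
    obtain ⟨u, hu⟩ : ∃ u, g[g] v = v + u := ⟨g[g] v - v, by abel⟩
    obtain ⟨w, hw⟩ : ∃ w, g[g] u = u + w := ⟨g[g] u - u, by abel⟩
    have hu1 : u.1 = 0 := by
      have := congrArg Prod.fst hu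
      rw [show v = (v.1, v.2.1, v.2.2) from rfl, hb] at this
      simpa using this
    have hw1 : w.1 = 0 ∧ w.2.1 = 0 := by
      have e : u = (0, u.2.1, u.2.2) := Prod.ext hu1 rfl
      refine ⟨?_, ?_⟩
      · have := congrArg Prod.fst hw
        rw [e, hb] at this
        simpa [eq_comm] using this
      · have := congrArg (fun z : K × K × K => z.2.1) hw
        rw [e, hc] at this
        simpa using this
    have hww : g[g] w = w := by
      rw [show w = (0, 0, w.2.2) from Prod.ext hw1.1 (Prod.ext hw1.2 rfl)]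
      exact hf _
    rw [app_pow_of_unipotent hu hw hww p]
    have hz : ∀ (n : ℕ) (x : K × K × K), p ∣ n → n • x = 0 := fun n x hn => by
      have h0 : (n : K) = 0 := (CharP.cast_eq_zero_iff K p n).2 hn
      refine Prod.ext ?_ (Prod.ext ?_ ?_) <;> simp [nsmul_eq_mul, h0]
    have h3 : 2 < p := by
      rcases lt_or_eq_of_le (Fact.out : p.Prime).two_le with h | h
      · exact h
      · exact absurd h.symm S.hp
    rw [hz p u dvd_rfl, hz _ w ((Fact.out : p.Prime).dvd_choose_self two_ne_zero h3), add_zero,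
      add_zero]
  have hP : IsPGroup p (Subgroup.zpowers g) := fun x => by
    refine ⟨1, ?_⟩
    obtain ⟨k, hk⟩ := Subgroup.mem_zpowers_iff.1 x.2
    refine Subtype.ext ?_
    rw [pow_one, Subgroup.coe_pow, Subgroup.coe_one, ← hk, ← zpow_natCast, ← zpow_mul, mul_comm,
      zpow_mul, zpow_natCast, hgp, one_zpow]
  have := hP.to_sup_of_normal_right' S.T.2 (Subgroup.zpowers_le.2 hg)
  rw [← S.T.is_maximal' this le_sup_right]
  exact Subgroup.mem_sup_left (Subgroup.mem_zpowers g)

theorem mem_of_scalar_one {g : G} (hg : g ∈ N) (hf : FixD (g : MulAut (V3 K)))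
    (h : ∀ t, g * S.el t * g⁻¹ = S.el t) : g ∈ (S.T : Subgroup G) := by
  obtain ⟨a, -, hat, hc, hb⟩ := S.exists_scalar hg hf
  have ha : a = 1 := by
    have := S.el_injective ((hat 1).symm.trans (h 1))
    rwa [mul_one] at this
  subst ha
  exact S.mem_of_trivial hg hf (fun c d => by rw [hc, div_one])
    fun b c d => by rw [hb, one_mul, div_one]

/-- The stabiliser of the third axis is `N(T)`. -/
theorem mem_normalizer_of_pres [Finite K] (hneg : NegProp K p) {g : G}
    (hg : Pres (g : MulAut (V3 K))) : g ∈ N := by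
  classical
  let D : Subgroup G :=
    { carrier := {h | FixD (h : MulAut (V3 K))}
      one_mem' := fixD_one
      mul_mem' := fun hx hy => hx.mul hy
      inv_mem' := fun hx => hx.inv }
  have hTD : (S.T : Subgroup G) ≤ D := fun x hx => by
    obtain ⟨t, rfl⟩ := S.exists_el hx
    exact S.el_fixD t
  have hcTD : ((g⁻¹ • S.T : Sylow p G) : Subgroup G) ≤ D := by
    intro x hx
    rw [Sylow.coe_subgroup_smul, Subgroup.pointwise_smul_def] at hx
    obtain ⟨y, hy, rfl⟩ := hx
    obtain ⟨t, rfl⟩ := S.exists_el hy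
    intro z
    have h1 : g[g] (0, 0, z) = (0, 0, (g[g] (0, 0, z)).2.2) :=
      Prod.ext (hg z).1 (Prod.ext (hg z).2 rfl)
    have e : ((MulAut.conj g⁻¹ (S.el t) : G) : MulAut (V3 K)) =
        (g : MulAut (V3 K))⁻¹ * (S.el t : MulAut (V3 K)) * (g : MulAut (V3 K)) := by
      rw [MulAut.conj_apply, inv_inv]; rfl
    show app (((MulAut.conj g⁻¹ (S.el t)) : G) : MulAut (V3 K)) (0, 0, z) = _
    rw [e, app_mul, app_mul, h1, S.el_fixD t, ← h1, app_inv_self]
  by_contra hN
  have hne : g⁻¹ • S.T ≠ S.T := fun h => hN (by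
    have : g⁻¹ ∈ N := Sylow.smul_eq_iff_mem_normalizer.1 h
    simpa using inv_mem this)
  -- the action on the first two layers
  have key : ∀ (h : D) (v : K × K × K),
      (g[(h : G)] v).1 = (g[(h : G)] (v.1, v.2.1, 0)).1 ∧
        (g[(h : G)] v).2.1 = (g[(h : G)] (v.1, v.2.1, 0)).2.1 := by
    intro h v
    have e : v = (v.1, v.2.1, 0) + (0, 0, v.2.2) := by
      ext <;> simp
    constructor
    · conv_lhs => rw [e, map_add, h.2 v.2.2]
      simp
    · conv_lhs => rw [e, map_add, h.2 v.2.2]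
      simp
  let act : D → (V2 K →* V2 K) := fun h => MonoidHom.mk'
    (fun x => Multiplicative.ofAdd ((g[(h : G)] ((Multiplicative.toAdd x).1,
      (Multiplicative.toAdd x).2, 0)).1, (g[(h : G)] ((Multiplicative.toAdd x).1,
        (Multiplicative.toAdd x).2, 0)).2.1)) fun x y => by
    rw [← ofAdd_add, toAdd_mul, Prod.fst_add, Prod.snd_add,
      show ((Multiplicative.toAdd x).1 + (Multiplicative.toAdd y).1,
        (Multiplicative.toAdd x).2 + (Multiplicative.toAdd y).2, (0 : K)) =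
        ((Multiplicative.toAdd x).1, (Multiplicative.toAdd x).2, 0) +
        ((Multiplicative.toAdd y).1, (Multiplicative.toAdd y).2, 0) by simp, map_add]
    simp
  have hact : ∀ (h₁ h₂ : D) (x : V2 K), act h₁ (act h₂ x) = act (h₁ * h₂) x := by
    intro h₁ h₂ x
    set v := g[(h₂ : G)] ((Multiplicative.toAdd x).1, (Multiplicative.toAdd x).2, 0)
    show Multiplicative.ofAdd ((g[(h₁ : G)] (v.1, v.2.1, 0)).1,
      (g[(h₁ : G)] (v.1, v.2.1, 0)).2.1) = _
    rw [← (key h₁ v).1, ← (key h₁ v).2]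
    rfl
  have hone : ∀ x : V2 K, act 1 x = x := fun x => rfl
  let ρ : D →* MulAut (V2 K) := MonoidHom.mk'
    (fun h =>
      { toFun := act h
        invFun := act h⁻¹
        left_inv := fun x => by rw [hact, inv_mul_cancel, hone]
        right_inv := fun x => by rw [hact, mul_inv_cancel, hone]
        map_mul' := (act h).map_mul })
    fun h₁ h₂ => MulEquiv.ext fun x => (hact h₁ h₂ x).symm
  let P : Sylow p D := S.T.subtype hTD
  have hshear : ∀ t, IsShear (ρ ⟨S.el t, hTD (S.el_mem t)⟩) t := fun t x y => by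
    show Multiplicative.ofAdd ((A[t] (x, y, 0)).1, (A[t] (x, y, 0)).2.1) = _
    rw [S.el_app]
  have hker : ρ.ker = ⊥ := by
    have htriv : ∀ h ∈ ρ.ker, ∀ v : K × K × K, ∃ w, g[(h : G)] v = v + (0, 0, w) := by
      intro h hh v
      have : ((g[(h : G)] (v.1, v.2.1, 0)).1, (g[(h : G)] (v.1, v.2.1, 0)).2.1) = (v.1, v.2.1) :=
        congrArg Multiplicative.toAdd
          (DFunLike.congr_fun (MonoidHom.mem_ker.1 hh) (Multiplicative.ofAdd (v.1, v.2.1)))
      have h1 := congrArg Prod.fst this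
      have h2 := congrArg Prod.snd this
      refine ⟨(g[(h : G)] v).2.2 - v.2.2, Prod.ext ?_ (Prod.ext ?_ ?_)⟩
      · rw [(key h v).1]; simpa using h1
      · rw [(key h v).2]; simpa using h2
      · simp
    have hp : IsPGroup p ρ.ker := fun h => by
      refine ⟨1, Subtype.ext (Subtype.ext (Subtype.ext (app_ext fun v => ?_)))⟩
      obtain ⟨w, hw⟩ := htriv _ h.2 v
      have hw0 : g[((h : D) : G)] (0, 0, w) = (0, 0, w) + 0 := by rw [(h : D).2 w, add_zero]
      simp only [pow_one, Subgroup.coe_pow, Subgroup.coe_one]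
      rw [app_pow_of_unipotent hw hw0 (map_zero _) p, app_one]
      refine Prod.ext ?_ (Prod.ext ?_ ?_) <;> simp [CharP.cast_eq_zero K p]
    refine (Subgroup.eq_bot_iff_forall _).2 fun h hh => ?_
    obtain ⟨Q, hQ⟩ := hp.exists_le_sylow
    obtain ⟨k, hk⟩ := MulAction.exists_smul_eq D Q P
    have hmem : k * h * k⁻¹ ∈ (P : Subgroup D) := by
      rw [← hk, Sylow.coe_subgroup_smul, Subgroup.pointwise_smul_def]
      exact ⟨h, hQ hh, rfl⟩
    obtain ⟨t, ht⟩ := S.exists_el (hmem : ((k * h * k⁻¹ : D) : G) ∈ (S.T : Subgroup G))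
    have hmem' : k * h * k⁻¹ ∈ ρ.ker := Subgroup.Normal.conj_mem inferInstance h hh k
    have h0 : t = 0 := by
      obtain ⟨w, hw⟩ := htriv _ hmem' (1, 0, 0)
      rw [show (((k * h * k⁻¹ : D) : G)) = S.el t from ht, S.el_app] at hw
      simpa using congrArg (fun z : K × K × K => z.2.1) hw
    rw [h0, S.el_zero] at ht
    have : k * h * k⁻¹ = 1 := Subtype.ext ht
    calc h = k⁻¹ * (k * h * k⁻¹) * k := by group
      _ = 1 := by rw [this, mul_one, inv_mul_cancel]
  have hρ : Function.Injective ρ := (MonoidHom.ker_eq_bot_iff ρ).1 hker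
  let P' : Sylow p ρ.range := P.mapSurjective ρ.rangeRestrict_surjective
  have hP' : ∀ x : ρ.range, x ∈ (P' : Subgroup ρ.range) ↔ ∃ t, IsShear (x : MulAut (V2 K)) t := by
    intro x
    show x ∈ (P : Subgroup D).map ρ.rangeRestrict ↔ _
    constructor
    · rintro ⟨h, hh, rfl⟩
      obtain ⟨t, ht⟩ := S.exists_el (hh : (h : G) ∈ (S.T : Subgroup G))
      refine ⟨t, ?_⟩
      rw [show h = ⟨S.el t, hTD (S.el_mem t)⟩ from Subtype.ext ht]
      exact hshear t
    · rintro ⟨t, ht⟩
      refine ⟨⟨S.el t, hTD (S.el_mem t)⟩, S.el_mem t, Subtype.ext ?_⟩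
      refine MulEquiv.ext fun y => ?_
      rw [show y = Multiplicative.ofAdd ((Multiplicative.toAdd y).1, (Multiplicative.toAdd y).2)
        from rfl, ht]
      exact hshear t _ _
  have hn : ¬ (P' : Subgroup ρ.range).Normal := by
    intro hn
    haveI : (P : Subgroup D).Normal := by
      have h1 := hn.comap ρ.rangeRestrict
      rwa [show (P' : Subgroup ρ.range) = (P : Subgroup D).map ρ.rangeRestrict from rfl,
        Subgroup.comap_map_eq_self_of_injective
          (fun a b e => hρ (congrArg Subtype.val e))] at h1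
    haveI := Sylow.unique_of_normal P this
    refine hne (Sylow.subtype_injective (hP := hcTD) (hQ := hTD) ?_)
    exact Subsingleton.elim _ _
  obtain ⟨g₀', ⟨g₀, rfl⟩, hg₀⟩ := hneg ρ.range P' hP'
    (fun t => ⟨_, ⟨⟨S.el t, hTD (S.el_mem t)⟩, rfl⟩, hshear t⟩) hn
  have hsq : g₀ * g₀ = 1 := hρ (by
    rw [map_mul, map_one]
    refine MulEquiv.ext fun x => ?_
    rw [MulAut.mul_apply, MulAut.one_apply, hg₀, hg₀, inv_inv])
  have hcomm : ∀ x : D, g₀ * x = x * g₀ := fun x => hρ (by
    rw [map_mul, map_mul]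
    refine MulEquiv.ext fun y => ?_
    rw [MulAut.mul_apply, MulAut.mul_apply, hg₀, hg₀, map_inv])
  let a : D := ⟨S.el 1, hTD (S.el_mem 1)⟩
  have hG0 : ∀ v, g[(g₀ : G)] (g[(g₀ : G)] v) = v := fun v => by
    rw [← app_mul, ← Subgroup.coe_mul, ← Subgroup.coe_mul, hsq]; rfl
  have hneg' : ∀ v, ∃ d, g[(g₀ : G)] v = -v + (0, 0, d) := by
    intro v
    have h1 : ((g[(g₀ : G)] (v.1, v.2.1, 0)).1, (g[(g₀ : G)] (v.1, v.2.1, 0)).2.1) =
        -(v.1, v.2.1) := congrArg Multiplicative.toAdd (hg₀ (Multiplicative.ofAdd (v.1, v.2.1)))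
    refine ⟨(g[(g₀ : G)] v).2.2 + v.2.2, Prod.ext ?_ (Prod.ext ?_ ?_)⟩
    · rw [(key g₀ v).1]
      simpa using congrArg Prod.fst h1
    · rw [(key g₀ v).2]
      simpa using congrArg Prod.snd h1
    · simp
  obtain ⟨d, hd⟩ := hneg' (1, 0, 0)
  obtain ⟨w, hw⟩ : ∃ w, w = g[(g₀ : G)] (1, 0, 0) := ⟨_, rfl⟩
  have hm : g[(g₀ : G)] ((1, 0, 0) - w) = -((1, 0, 0) - w) := by
    rw [map_sub, hw, hG0, neg_sub]
  have hstep : ∀ m, g[(g₀ : G)] m = -m → g[(g₀ : G)] (A[1] m - m) = -(A[1] m - m) := by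
    intro m hm
    have e : g[(g₀ : G)] (A[1] m) = A[1] (g[(g₀ : G)] m) :=
      congrArg (fun x : D => g[(x : G)] m) (hcomm a)
    rw [map_sub, e, hm, map_neg, neg_sub]
    abel
  have h2 := hstep _ (hstep _ hm)
  have hw' : w = (-1, 0, d) := by
    rw [hw, hd]; ext <;> simp
  rw [hw'] at h2
  simp only [S.el_app', Prod.mk_sub_mk, Prod.neg_mk] at h2
  ring_nf at h2
  rw [show ((0 : K), (0 : K), (4 : K)) = (0, 0, 4) from rfl, g₀.2 4, Prod.ext_iff, Prod.ext_iff] at h2
  obtain ⟨-, -, h4⟩ := h2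
  dsimp only at h4
  have : (2 : K) * (2 * 2) = 0 := by linear_combination h4
  simp [S.two_ne] at this

end Setup

end CfsgLib.Fusion.SpFour.OddA
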