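import Cfsg.Agent.Lib.Fusion.SpFour.Defs
import Mathlib.GroupTheory.Sylow
import Mathlib.GroupTheory.PGroup
import Mathlib.Algebra.CharP.Two

/-!
Odd characteristic, the automizer of `bcd`: additive notation and the elements `a_t`.
-/

set_option autoImplicit false
set_option linter.style.haveILetI false
set_option linter.unusedSectionVars false

namespace CfsgLib.Fusion.SpFour.OddA

open Cfsg

variable {K : Type*} [Field K]

/-- An automorphism of `V3 K` in additive notation. -/
def app (g : MulAut (V3 K)) : (K × K × K) →+ (K × K × K) :=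
  AddMonoidHom.mk' (fun v => Multiplicative.toAdd (g (Multiplicative.ofAdd v))) fun v w => by
    rw [ofAdd_add, map_mul, toAdd_mul]

theorem app_mul (g h : MulAut (V3 K)) (v : K × K × K) : app (g * h) v = app g (app h v) := rfl

theorem app_one (v : K × K × K) : app (1 : MulAut (V3 K)) v = v := rfl

theorem app_inv_self (g : MulAut (V3 K)) (v : K × K × K) : app g⁻¹ (app g v) = v := by
  rw [← app_mul, inv_mul_cancel, app_one]

theorem app_self_inv (g : MulAut (V3 K)) (v : K × K × K) : app g (app g⁻¹ v) = v := by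
  rw [← app_mul, mul_inv_cancel, app_one]

theorem app_injective (g : MulAut (V3 K)) : Function.Injective (app g) :=
  Function.LeftInverse.injective (g := app g⁻¹) (app_inv_self g)

theorem app_ext {g h : MulAut (V3 K)} (e : ∀ v, app g v = app h v) : g = h :=
  MulEquiv.ext fun x => congrArg Multiplicative.ofAdd (e (Multiplicative.toAdd x))

/-- The hypotheses, for a group fixing the element `e` of the third axis. -/
structure Setup (p : ℕ) (G : Subgroup (MulAut (V3 K))) where
  /-- The Sylow subgroup. -/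
  T : Sylow p G
  hT : ∀ g : G, g ∈ (T : Subgroup G) ↔ ∃ t, IsActA (g : MulAut (V3 K)) t
  /-- The element `a_t`. -/
  el : K → G
  hel : ∀ t, IsActA (el t : MulAut (V3 K)) t
  /-- The fixed element. -/
  e : K
  e_ne : e ≠ 0
  fix : ∀ g : G, app (g : MulAut (V3 K)) (0, 0, e) = (0, 0, e)
  hp : p ≠ 2

/-- `g` preserves the third axis. -/
def Pres (g : MulAut (V3 K)) : Prop := ∀ x : K, (app g (0, 0, x)).1 = 0 ∧ (app g (0, 0, x)).2.1 = 0

/-- `g` fixes the third axis pointwise. -/
def FixD (g : MulAut (V3 K)) : Prop := ∀ x : K, app g (0, 0, x) = (0, 0, x)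

theorem FixD.pres {g : MulAut (V3 K)} (h : FixD g) : Pres g := fun x => by simp [h x]

theorem fixD_one : FixD (1 : MulAut (V3 K)) := fun _ => rfl

theorem FixD.mul {g h : MulAut (V3 K)} (hg : FixD g) (hh : FixD h) : FixD (g * h) := fun x => by
  rw [app_mul, hh x, hg x]

theorem FixD.inv {g : MulAut (V3 K)} (hg : FixD g) : FixD g⁻¹ := fun x => by
  conv_lhs => rw [← hg x]
  exact app_inv_self _ _

namespace Setup

variable {p : ℕ} [Fact p.Prime] [CharP K p] {G : Subgroup (MulAut (V3 K))} (S : Setup p G)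

local notation "A[" t "]" => app ((S.el t : G) : MulAut (V3 K))
local notation "g[" g "]" => app ((g : G) : MulAut (V3 K))

include S in
theorem two_ne : (2 : K) ≠ 0 := by
  intro h
  have h1 : p ∣ 2 := (CharP.cast_eq_zero_iff K p 2).1 (by exact_mod_cast h)
  exact S.hp ((Nat.prime_dvd_prime_iff_eq Fact.out Nat.prime_two).1 h1)

theorem el_app (t b c d : K) : A[t] (b, c, d) = (b, c + t * b, d + t ^ 2 * b + 2 * t * c) := by
  have h := S.hel t b c d
  exact congrArg Multiplicative.toAdd h

theorem el_app' (t : K) (v : K × K × K) :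
    A[t] v = (v.1, v.2.1 + t * v.1, v.2.2 + t ^ 2 * v.1 + 2 * t * v.2.1) :=
  S.el_app t v.1 v.2.1 v.2.2

theorem el_add (s t : K) : S.el (s + t) = S.el s * S.el t := by
  refine Subtype.ext (app_ext fun v => ?_)
  rw [Subgroup.coe_mul, app_mul, S.el_app', S.el_app', S.el_app']
  refine Prod.ext rfl (Prod.ext ?_ ?_) <;> dsimp only <;> ring

theorem el_zero : S.el 0 = 1 := by
  refine Subtype.ext (app_ext fun v => ?_)
  rw [S.el_app', Subgroup.coe_one, app_one]
  refine Prod.ext rfl (Prod.ext ?_ ?_) <;> dsimp only <;> ring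

theorem el_neg (t : K) : S.el (-t) = (S.el t)⁻¹ :=
  eq_inv_of_mul_eq_one_left (by rw [← S.el_add, neg_add_cancel, S.el_zero])

theorem el_pow (t : K) : ∀ n : ℕ, S.el t ^ n = S.el ((n : K) * t)
  | 0 => by rw [pow_zero, Nat.cast_zero, zero_mul, S.el_zero]
  | n + 1 => by rw [pow_succ, el_pow t n, ← S.el_add, Nat.cast_succ, add_mul, one_mul]

theorem el_pow_p (t : K) : S.el t ^ p = 1 := by
  rw [S.el_pow, CharP.cast_eq_zero, zero_mul, S.el_zero]

theorem el_mem (t : K) : S.el t ∈ (S.T : Subgroup G) := (S.hT _).2 ⟨t, S.hel t⟩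

theorem exists_el {g : G} (hg : g ∈ (S.T : Subgroup G)) : ∃ t, g = S.el t := by
  obtain ⟨t, ht⟩ := (S.hT g).1 hg
  refine ⟨t, Subtype.ext (app_ext fun v => ?_)⟩
  rw [S.el_app']
  exact congrArg Multiplicative.toAdd (ht v.1 v.2.1 v.2.2)

theorem el_injective : Function.Injective S.el := fun s t h => by
  have := congrArg (fun g : G => (g[g] (1, 0, 0)).2.1) h
  simpa [S.el_app] using this

theorem el_fixD (t : K) : FixD (S.el t : MulAut (V3 K)) := fun x => by
  rw [S.el_app]; simp

/-- The fixed points of a nontrivial `a_t`. -/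
theorem el_fixed {t : K} (ht : t ≠ 0) {v : K × K × K} (h : A[t] v = v) :
    v.1 = 0 ∧ v.2.1 = 0 := by
  rw [S.el_app', Prod.ext_iff, Prod.ext_iff] at h
  obtain ⟨-, h1, h2⟩ := h
  dsimp only at h1 h2
  have hb : v.1 = 0 := (mul_eq_zero.1 (show t * v.1 = 0 by linear_combination h1)).resolve_left ht
  refine ⟨hb, (mul_eq_zero.1 (show (2 * t) * v.2.1 = 0 by
    rw [hb] at h2; linear_combination h2)).resolve_left (mul_ne_zero S.two_ne ht)⟩

/-- An element conjugating a nontrivial `a_t` into `T` preserves the third axis. -/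
theorem pres_of_conj {g : G} {t t' : K} (ht : t ≠ 0) (h : g * S.el t * g⁻¹ = S.el t') :
    Pres (g : MulAut (V3 K)) := by
  intro x
  have ht' : t' ≠ 0 := by
    rintro rfl
    rw [S.el_zero, mul_inv_eq_one, mul_eq_left] at h
    exact ht (S.el_injective (h.trans S.el_zero.symm))
  refine S.el_fixed ht' ?_
  rw [← h, Subgroup.coe_mul, Subgroup.coe_mul, app_mul, app_mul, Subgroup.coe_inv, app_inv_self,
    S.el_fixD t x]

theorem pres_of_mem_normalizer {g : G}
    (hg : g ∈ Subgroup.normalizer ((S.T : Subgroup G) : Set G)) : Pres (g : MulAut (V3 K)) := by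
  obtain ⟨t', ht'⟩ := S.exists_el ((Subgroup.mem_normalizer_iff.1 hg (S.el 1)).1 (S.el_mem 1))
  exact S.pres_of_conj one_ne_zero ht'

end Setup

end CfsgLib.Fusion.SpFour.OddA
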