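import Cfsg.Agent.Lib.Fusion.SpFour.OddA.Count
import Mathlib.Data.ZMod.Basic

/-!
The equivariant lift `f` of the vectors inverted by the involution to its fixed space, defined up
to the fixed element, and the torus element commuting with the involution.
-/

set_option autoImplicit false
set_option linter.style.haveILetI false
set_option linter.unusedSectionVars false

namespace CfsgLib.Fusion.SpFour.OddA

open Cfsg

variable {K : Type*} [Field K]

/-- Division by a number prime to the characteristic. -/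
theorem exists_nsmul_inv {p : ℕ} [Fact p.Prime] [CharP K p] {n : ℕ} (hn : ¬ p ∣ n) :
    ∃ m : ℕ, ∀ z : K × K × K, m • (n • z) = z := by
  refine ⟨((n : ZMod p)⁻¹).val, fun z => ?_⟩
  have h0 : (n : ZMod p) ≠ 0 := fun h => hn ((ZMod.natCast_eq_zero_iff n p).1 h)
  have h1 : ((((n : ZMod p)⁻¹).val : ℕ) : K) * (n : K) = 1 := by
    have h := congrArg (ZMod.castHom (dvd_refl p) K) (inv_mul_cancel₀ h0)
    rwa [map_mul, map_one, map_natCast, ← ZMod.natCast_zmod_val (n : ZMod p)⁻¹, map_natCast] at h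
  rw [← mul_nsmul', ← Nat.cast_smul_eq_nsmul K, Nat.cast_mul, h1, one_smul]

namespace Setup

variable {p : ℕ} [Fact p.Prime] [CharP K p] {G : Subgroup (MulAut (V3 K))} {S : Setup p G}

local notation "A[" t "]" => app ((S.el t : G) : MulAut (V3 K))
local notation "g[" g "]" => app ((g : G) : MulAut (V3 K))
local notation "N" => Subgroup.normalizer ((S.T : Subgroup G) : Set G)
local notation "E" => (((0 : K), (0 : K), S.e) : K × K × K)

/-- Averaging over a group of order prime to `p`. -/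
theorem exists_average [Finite K] (H : Subgroup G) (hH : ¬ p ∣ Nat.card H) :
    ∃ π : (K × K × K) →+ (K × K × K), (∀ h ∈ H, ∀ v, g[h] (π v) = π v) ∧
      (∀ v, (∀ h ∈ H, g[h] v = v) → π v = v) ∧
      ∀ n : G, (∀ h ∈ H, n * h * n⁻¹ ∈ H) → ∀ v, π (g[n] v) = g[n] (π v) := by
  letI := Fintype.ofFinite H
  obtain ⟨m, hm⟩ := exists_nsmul_inv (K := K) hH
  let π : (K × K × K) →+ (K × K × K) :=
    AddMonoidHom.mk' (fun v => m • ∑ h : H, g[(h : G)] v) fun a b => by
      simp only [map_add, Finset.sum_add_distrib, smul_add]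
  have hπ : ∀ v, π v = m • ∑ h : H, g[(h : G)] v := fun _ => rfl
  refine ⟨π, fun h hh v => ?_, fun v hv => ?_, fun n hn v => ?_⟩
  · rw [hπ, map_nsmul, map_sum]
    congr 1
    refine Fintype.sum_equiv (Equiv.mulLeft (⟨h, hh⟩ : H)) _ _ fun x => ?_
    show g[h] (g[(x : G)] v) = g[h * (x : G)] v
    rw [Subgroup.coe_mul, app_mul]
  · rw [hπ, Finset.sum_congr rfl (fun (h : H) _ => hv h h.2), Finset.sum_const, Finset.card_univ,
      ← Nat.card_eq_fintype_card, hm]
  · rw [hπ, hπ, map_nsmul, map_sum]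
    congr 1
    let c : H → H := fun h => ⟨n * (h : G) * n⁻¹, hn h h.2⟩
    have hc : Function.Bijective c := Finite.injective_iff_bijective.1 fun a b hab => by
      have := congrArg Subtype.val hab
      exact Subtype.ext (mul_left_cancel (mul_right_cancel this))
    refine (Fintype.sum_bijective c hc _ _ fun h => ?_).symm
    show g[n] (g[(h : G)] v) = g[n * (h : G) * n⁻¹] (g[n] v)
    simp only [Subgroup.coe_mul, Subgroup.coe_inv, app_mul, app_inv_self]

namespace Invol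

variable (I : S.Invol)

theorem anti_ne {r : K × K × K} (hr : g[I.τ] r = -r) (h0 : r ≠ 0) : r.2.1 ≠ 0 :=
  fun h => h0 (I.anti_axis hr h)

theorem exists_anti (w : K) : ∃ r, g[I.τ] r = -r ∧ r.2.1 = w := by
  set d := (g[I.τ] (0, w, 0)).2.2
  have h := S.two_ne
  have h1 : g[I.τ] (0, w, 0) = (0, -w, d) := by
    refine Prod.ext ?_ (Prod.ext ?_ rfl)
    · exact I.layer₁ 0 w 0
    · exact I.layer₂ w 0
  refine ⟨(0, w, -d / 2), ?_, rfl⟩
  rw [show ((0 : K), w, -d / 2) = (0, w, 0) + (0, 0, -d / 2) by simp, map_add, h1, I.fixD]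
  refine Prod.ext ?_ (Prod.ext ?_ ?_) <;> simp
  field_simp
  ring

theorem anti_unique {r r' : K × K × K} (hr : g[I.τ] r = -r) (hr' : g[I.τ] r' = -r')
    (h : r.2.1 = r'.2.1) : r = r' := by
  refine sub_eq_zero.1 (I.anti_axis ?_ ?_)
  · rw [map_sub, hr, hr']; abel
  · simp [h]

/-- `u` is a value of the lift at `r`. -/
def Sq (r u : K × K × K) : Prop :=
  g[I.τ] u = u ∧ (∀ h : G, g[h] r = r → g[h] u = u) ∧
    ∀ h : G, g[h] r = r + E → ∃ i : ℤ, g[h] u - u - r = i • E

theorem sq_fst {r u : K × K × K} (hr : g[I.τ] r = -r) (h0 : r ≠ 0) (h : I.Sq r u) :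
    u.1 = 2 * r.2.1 ^ 2 / S.e := by
  obtain ⟨i, hi⟩ := h.2.2 _ (S.el_shift (I.anti_plane hr) (I.anti_ne hr h0))
  have h1 := congrArg (fun z : K × K × K => z.2.1) hi
  rw [S.el_app'] at h1
  simp [zsmul_eq_mul] at h1
  have := S.e_ne
  have := S.two_ne
  have := I.anti_ne hr h0
  field_simp at h1 ⊢
  linear_combination h1

theorem exists_sq [Finite K] {r : K × K × K} (hr : g[I.τ] r = -r) (h0 : r ≠ 0) :
    ∃ u, I.Sq r u := by
  have h1 := I.anti_plane hr
  have h2 := I.anti_ne hr h0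
  have := S.two_ne
  have := S.e_ne
  let H : Subgroup G :=
    { carrier := {h | g[h] r = r}
      one_mem' := app_one r
      mul_mem' := fun {a b} ha hb => by
        show g[a * b] r = r
        rw [Subgroup.coe_mul, app_mul, hb, ha]
      inv_mem' := fun {a} ha => by
        show g[a⁻¹] r = r
        conv_lhs => rw [← ha]
        rw [Subgroup.coe_inv, app_inv_self] }
  obtain ⟨π, hπ1, hπ2, hπ3⟩ := exists_average H
    (S.not_dvd_stab H h1 h2 fun _ hx => hx)
  set t := S.e / (2 * r.2.1) with ht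
  have ht0 : t ≠ 0 := div_ne_zero S.e_ne (mul_ne_zero S.two_ne h2)
  have htr : A[t] r = r + E := S.el_shift h1 h2
  have htr' : g[(S.el t)⁻¹] r = r - E := by
    apply app_injective (S.el t : MulAut (V3 K))
    rw [Subgroup.coe_inv, app_self_inv, map_sub, htr, S.el_fixD t]
    abel
  have hnorm : ∀ h ∈ H, S.el t * h * (S.el t)⁻¹ ∈ H := by
    intro h hh
    show g[S.el t * h * (S.el t)⁻¹] r = r
    rw [Subgroup.coe_mul, app_mul, htr', Subgroup.coe_mul, app_mul, map_sub, show g[h] r = r from hh,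
      S.fix, map_sub, htr, S.el_fixD t, add_sub_cancel_right]
  have hτ : ∀ h ∈ H, I.τ * h * I.τ⁻¹ ∈ H := by
    intro h hh
    show g[I.τ * h * I.τ⁻¹] r = r
    have hτr : g[I.τ⁻¹] r = -r := by
      apply app_injective (I.τ : MulAut (V3 K))
      rw [Subgroup.coe_inv, app_self_inv, map_neg, hr, neg_neg]
    rw [Subgroup.coe_mul, app_mul, hτr, Subgroup.coe_mul, app_mul, map_neg, map_neg,
      show g[h] r = r from hh, hr, neg_neg]
  obtain ⟨u₀, hu₀⟩ : ∃ u₀, A[t] u₀ = u₀ + r := by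
    refine ⟨(r.2.1 / t, (r.2.2 - t * r.2.1) / (2 * t), 0), ?_⟩
    rw [S.el_app]
    refine Prod.ext ?_ (Prod.ext ?_ ?_) <;> simp [h1]
    · field_simp
    · field_simp
      ring
  set z := π u₀ with hz
  have hzt : A[t] z = z + r := by
    rw [hz, ← hπ3 _ hnorm, hu₀, map_add, hπ2 r fun _ hh => hh]
  have hzt' : g[(S.el t)⁻¹] z = z - r + E := by
    apply app_injective (S.el t : MulAut (V3 K))
    rw [Subgroup.coe_inv, app_self_inv, map_add, map_sub, hzt, htr, S.fix]
    abel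
  have hτt : S.el t * I.τ = I.τ * (S.el t)⁻¹ := by
    rw [← S.el_neg, ← I.inv (-t) |>.trans (congrArg S.el (neg_neg t))]
    group
  have hzτ : A[t] (g[I.τ] z) = g[I.τ] z + r + E := by
    rw [← app_mul, ← Subgroup.coe_mul, hτt, Subgroup.coe_mul, app_mul, hzt', map_add, map_sub, hr,
      S.fix]
    abel
  obtain ⟨m, hm⟩ := exists_nsmul_inv (K := K) (p := p) (n := 2)
    fun h => S.hp ((Nat.prime_dvd_prime_iff_eq Fact.out Nat.prime_two).1 h)
  refine ⟨m • (z + g[I.τ] z), ?_, fun h hh => ?_, fun h hh => ⟨m, ?_⟩⟩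
  · rw [map_nsmul, map_add, I.app_self, add_comm]
  · rw [map_nsmul, map_add, hπ1 h hh, hz, ← hπ3 _ hτ, hπ1 h hh]
  · have hk : g[(S.el t)⁻¹ * h] r = r := by
      rw [Subgroup.coe_mul, app_mul, hh, map_add, htr', S.fix]
      abel
    have hu : g[h] (m • (z + g[I.τ] z)) = A[t] (m • (z + g[I.τ] z)) := by
      have e : g[(S.el t)⁻¹ * h] (m • (z + g[I.τ] z)) = m • (z + g[I.τ] z) := by
        rw [map_nsmul, map_add, hπ1 _ hk, hz, ← hπ3 _ hτ, hπ1 _ hk]
      conv_rhs => rw [← e, ← app_mul, ← Subgroup.coe_mul, mul_inv_cancel_left]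
    rw [hu, map_nsmul, map_add, hzt, hzτ, natCast_zsmul,
      show z + r + (g[I.τ] z + r + E) = (z + g[I.τ] z) + (2 • r + E) by rw [two_nsmul]; abel,
      smul_add, add_sub_cancel_left, smul_add, hm r, add_sub_cancel_left]

theorem sq_unique [Finite K] (hneg : NegProp K p) (htor : HasTorus G)
    (hnn : ¬ (S.T : Subgroup G).Normal) {r u u' : K × K × K} (hr : g[I.τ] r = -r) (h0 : r ≠ 0)
    (h : I.Sq r u) (h' : I.Sq r u') : ∃ i : ℤ, u - u' = i • E := by
  have hb : (u - u').1 = 0 := by simp [I.sq_fst hr h0 h, I.sq_fst hr h0 h']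
  have hτ : g[I.τ] (u - u') = u - u' := by rw [map_sub, h.1, h'.1]
  have hc := I.fix_plane hτ hb
  obtain ⟨i, hi⟩ := S.fixed_axis hneg htor hnn (I.anti_plane hr) (I.anti_ne hr h0)
    (δ := (u - u').2.2) fun k hk => by
      rw [show ((0 : K), (0 : K), (u - u').2.2) = u - u' from
        Prod.ext hb.symm (Prod.ext hc.symm rfl), map_sub, h.2.1 k hk, h'.2.1 k hk]
  exact ⟨i, (show u - u' = ((0 : K), (0 : K), (u - u').2.2) from
    Prod.ext hb (Prod.ext hc rfl)).trans hi⟩

theorem anti_map {x : G} (hx : x * I.τ = I.τ * x) {r : K × K × K} (hr : g[I.τ] r = -r) :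
    g[I.τ] (g[x] r) = -(g[x] r) := by
  rw [← app_mul, ← Subgroup.coe_mul, ← hx, Subgroup.coe_mul, app_mul, hr, map_neg]

theorem sq_map {x : G} (hx : x * I.τ = I.τ * x) {r u : K × K × K} (h : I.Sq r u) :
    I.Sq (g[x] r) (g[x] u) := by
  obtain ⟨h1, h2, h3⟩ := h
  refine ⟨?_, fun k hk => ?_, fun k hk => ?_⟩
  · rw [← app_mul, ← Subgroup.coe_mul, ← hx, Subgroup.coe_mul, app_mul, h1]
  · have := congrArg g[x] (h2 (x⁻¹ * k * x) (by
      simp only [Subgroup.coe_mul, Subgroup.coe_inv, app_mul, hk, app_inv_self]))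
    simpa only [Subgroup.coe_mul, Subgroup.coe_inv, app_mul, app_self_inv] using this
  · have hk' : g[x⁻¹ * k * x] r = r + E := by
      rw [Subgroup.coe_mul, Subgroup.coe_mul, app_mul, app_mul, hk, map_add, S.fix,
        Subgroup.coe_inv, app_inv_self]
    obtain ⟨i, hi⟩ := h3 _ hk'
    refine ⟨i, ?_⟩
    have h4 := congrArg g[x] hi
    simp only [map_sub, map_zsmul, S.fix, Subgroup.coe_mul, Subgroup.coe_inv, app_mul,
      app_self_inv] at h4
    exact h4

theorem exists_torus [Finite K] (hneg : NegProp K p) (htor : HasTorus G) {l : K} (hl : l ≠ 0) :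
    ∃ η : G, η * I.τ = I.τ * η ∧ FixD (η : MulAut (V3 K)) ∧
      (∀ b c d, (g[η] (b, c, d)).1 = l⁻¹ * l⁻¹ * b) ∧
      ∀ c d, (g[η] (0, c, d)).2.1 = l⁻¹ * c := by
  obtain ⟨g, hgf, hg1, hg2⟩ := htor l hl
  have hgN := S.mem_normalizer_of_pres hneg hgf.pres
  obtain ⟨s, hs⟩ := I.eq_of_scalar (σ := g * I.τ * g⁻¹) (mul_mem (mul_mem hgN I.mem) (inv_mem hgN))
    ((hgf.mul I.fixD).mul hgf.inv)
    (by rw [show g * I.τ * g⁻¹ * (g * I.τ * g⁻¹) = g * (I.τ * I.τ) * g⁻¹ by group, I.sq, mul_one,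
      mul_inv_cancel])
    (fun e => I.ne_one (by
      calc I.τ = g⁻¹ * (g * I.τ * g⁻¹) * g := by group
        _ = 1 := by rw [e, mul_one, inv_mul_cancel]))
  obtain ⟨u, hu⟩ : ∃ u, u + u = s := ⟨s / 2, by have := S.two_ne; field_simp; ring⟩
  refine ⟨S.el u * g, ?_, (S.el_fixD u).mul hgf, fun b c d => ?_, fun c d => ?_⟩
  · have hcomm : S.el u * I.τ = I.τ * S.el (-u) := by
      rw [← I.inv (-u) |>.trans (congrArg S.el (neg_neg u))]
      group
    calc S.el u * g * I.τ = S.el u * (g * I.τ * g⁻¹) * g := by group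
      _ = I.τ * (S.el (-u) * S.el s) * g := by rw [hs, ← mul_assoc, hcomm]; group
      _ = I.τ * (S.el u * g) := by rw [← S.el_add, ← hu, neg_add_cancel_left]; group
  · rw [Subgroup.coe_mul, app_mul, S.el_app', hg1]
  · rw [Subgroup.coe_mul, app_mul, S.el_app', hg1, hg2, mul_zero, mul_zero, add_zero]

end Invol

end Setup

end CfsgLib.Fusion.SpFour.OddA
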